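import Cfsg.Agent.Leech.Co1Inv.Mono
import Cfsg.Agent.Leech.OutCo1.Vectors
import Cfsg.Agent.S0293
import Cfsg.Agent.S0296
import Cfsg.Agent.Classical.Orth.POmegaCard
import Cfsg.Agent.LargeExtra.Coprime
import Cfsg.Agent.Components.GenFitting
import Cfsg.Prelude.Def_Spor_Conway

/-!
The involution centraliser in the quotient by the centre: an extraspecial group extended by the orthogonal group.
-/

set_option autoImplicit false
set_option linter.style.haveILetI false

namespace Cfsg.Lib.Leech.Co1Inv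

open Cfsg Cfsg.Lib.Golay Cfsg.Lib.PermCert Finset MulAction
open Cfsg.Lib.Leech.OutCo1 (orth_card dotInt_comm')
open scoped Pointwise commutatorElement

/-- The involution of the quotient. -/
noncomputable def zInv : Spor.Co1 := QuotientGroup.mk g0

theorem g0_supp_off {p : GolayPt} (hp : p ∉ oct) : g0 • e8 p = e8 p := by
  rw [g0, monoFun_e8, if_neg (by simpa using hp), Equiv.Perm.one_apply]

theorem dot_disjoint {v w : leechLattice} (hv : Supp v) (hw : ∀ p ∈ oct, (w : GolayPt → ℤ) p = 0) :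
    dotInt (v : GolayPt → ℤ) w = 0 := by
  refine sum_eq_zero fun p _ => ?_
  by_cases hp : p ∈ oct
  · rw [hw p hp, mul_zero]
  · rw [hv p hp, zero_mul]

theorem no_conj (h : Co0) : h * g0 * h⁻¹ ≠ g0 * negOne := by
  intro e
  have e' : h * g0 = g0 * negOne * h := by rw [← e]; group
  have hS : ∀ p, p ∉ oct → Supp (h • e8 p) := fun p hp => by
    have h1 := congrArg (fun k : Co0 => k • e8 p) e'
    simp only [mul_smul, g0_supp_off hp, negOne_apply, smul_neg'] at h1
    rw [supp_iff]
    exact (neg_eq_iff_eq_neg.mp h1.symm)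
  have hz : ∀ p, p ∉ oct → ∀ q ∈ oct, (e8 p : GolayPt → ℤ) q = 0 := fun p hp q hq =>
    Pi.single_eq_of_ne (fun hqp => hp (by rw [← hqp]; exact hq)) 8
  let w : {p // p ∉ oct} ⊕ {p // p ∉ oct} → GolayPt → ℤ :=
    Sum.elim (fun p => (e8 p.1 : GolayPt → ℤ)) fun p => ((h • e8 p.1 : leechLattice) : GolayPt → ℤ)
  have hne : ∀ p : GolayPt, (e8 p : GolayPt → ℤ) ≠ 0 := fun p hp => by
    simpa [e8] using congrFun hp p
  have hort : ∀ p q : GolayPt, p ≠ q → dotInt (e8 p : GolayPt → ℤ) (e8 q) = 0 := fun p q hpq =>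
    sum_eq_zero fun r _ => by
      simp only [e8, Pi.single_apply]
      split <;> split <;> simp_all
  have hle := orth_card w ?_ ?_
  · rw [Fintype.card_sum, ← Nat.card_eq_fintype_card, card_not_mem_octad oct_octad] at hle
    omega
  · rintro (p | p)
    · exact hne p.1
    · intro h0
      have h2 : Cfsg.sqNorm ((h • e8 p.1 : leechLattice) : GolayPt → ℤ) = 0 := by
        rw [show ((h • e8 p.1 : leechLattice) : GolayPt → ℤ) = 0 from h0]; simp [Cfsg.sqNorm]
      rw [show Cfsg.sqNorm ((h • e8 p.1 : leechLattice) : GolayPt → ℤ) = _ from h.2.2 _, sqNorm_e8] at h2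
      norm_num at h2
  · rintro (p | p) (q | q) hne'
    · exact hort _ _ fun e => hne' (by rw [Subtype.ext e])
    · show dotInt _ _ = 0
      rw [dotInt_comm']
      exact dot_disjoint (hS _ q.2) (hz _ p.2)
    · exact dot_disjoint (hS _ p.2) (hz _ q.2)
    · show dotInt ((h • e8 p.1 : leechLattice) : GolayPt → ℤ) ((h • e8 q.1 : leechLattice) : GolayPt → ℤ) = 0
      rw [dot_smul]
      exact hort _ _ fun e => hne' (by rw [Subtype.ext e])

theorem g0_ne : g0 ≠ 1 ∧ g0 ≠ negOne := by
  constructor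
  · intro h
    have := congrArg (fun k : Co0 => ((k • e8 (octO 0) : leechLattice) : GolayPt → ℤ) (octO 0)) h
    rw [g0, monoFun_e8, Equiv.Perm.one_apply, if_pos (octO_mem 0), one_smul] at this
    simp [e8] at this
  · intro h
    obtain ⟨p, hp⟩ := exists_not_mem_octad oct_octad
    have := congrArg (fun k : Co0 => ((k • e8 p : leechLattice) : GolayPt → ℤ) p) h
    rw [g0_supp_off hp, negOne_apply] at this
    simp [e8] at this

theorem mk_eq_iff {a b : Co0} :
    (QuotientGroup.mk a : Spor.Co1) = QuotientGroup.mk b ↔ a = b ∨ a = negOne * b := by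
  rw [eq_comm, QuotientGroup.eq, ← SetLike.mem_coe, center_eq, Set.mem_insert_iff, Set.mem_singleton_iff,
    inv_mul_eq_one, inv_mul_eq_iff_eq_mul, negOne_comm, @eq_comm _ b a]

theorem g0_sq : g0 * g0 = 1 := flip_sq oct_code

theorem orderOf_zInv : orderOf zInv = 2 := by
  haveI : Fact (Nat.Prime 2) := ⟨Nat.prime_two⟩
  refine orderOf_eq_prime ?_ ?_
  · rw [zInv, pow_two, ← QuotientGroup.mk_mul, g0_sq, QuotientGroup.mk_one]
  · intro h
    rw [zInv, ← QuotientGroup.mk_one, mk_eq_iff, mul_one] at h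
    exact h.elim g0_ne.1 g0_ne.2

/-- The centraliser in the quotient. -/
abbrev Cz : Subgroup Spor.Co1 := Subgroup.centralizer ({zInv} : Set Spor.Co1)

/-- The projection of the centraliser. -/
noncomputable def proj : Cg →* Cz :=
  ((QuotientGroup.mk' (Subgroup.center Co0)).comp Cg.subtype).codRestrict _ fun h => by
    rw [Subgroup.mem_centralizer_singleton_iff, zInv]
    show (QuotientGroup.mk (h : Co0) : Spor.Co1) * QuotientGroup.mk g0 = _
    rw [← QuotientGroup.mk_mul, Subgroup.mem_centralizer_singleton_iff.mp h.2, QuotientGroup.mk_mul]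
    rfl

theorem proj_surjective : Function.Surjective proj := by
  rintro ⟨x, hx⟩
  induction x using QuotientGroup.induction_on with
  | _ h =>
    rw [Subgroup.mem_centralizer_singleton_iff, zInv, ← QuotientGroup.mk_mul, ← QuotientGroup.mk_mul,
      mk_eq_iff] at hx
    rcases hx with hx | hx
    · exact ⟨⟨h, Subgroup.mem_centralizer_singleton_iff.mpr hx⟩, rfl⟩
    · refine absurd ?_ (no_conj h)
      rw [hx, ← negOne_comm g0]
      group

/-- The negation. -/
noncomputable def negC : Cg := monoC 1 univ_mem_code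

theorem proj_eq_iff {a b : Cg} : proj a = proj b ↔ a = b ∨ a = negC * b := by
  rw [Subtype.ext_iff]
  show (QuotientGroup.mk (a : Co0) : Spor.Co1) = QuotientGroup.mk (b : Co0) ↔ _
  rw [mk_eq_iff]
  exact or_congr Subtype.coe_inj (Subtype.coe_inj (a := a) (b := negC * b))

theorem negC_ker : rho negC = 1 :=
  (rho_monoC_eq_one _ _).mpr ⟨fun _ _ => rfl, fun p _ q _ => by simp⟩

theorem negC_ne_one : negC ≠ 1 := fun h => negOne_ne_one (congrArg Subtype.val h)

theorem card_proj_ker : Nat.card proj.ker = 2 := by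
  have e : (proj.ker : Set Cg) = {1, negC} := by
    ext a
    rw [SetLike.mem_coe, MonoidHom.mem_ker, ← map_one proj, proj_eq_iff, mul_one]
    rfl
  rw [← SetLike.coe_sort_coe, e, Nat.card_coe_set_eq, Set.ncard_pair negC_ne_one.symm]

/-- The kernel modulo two, in the quotient. -/
noncomputable def Q : Subgroup Cz := rho.ker.map proj

theorem proj_ker_le : proj.ker ≤ rho.ker := fun a ha => by
  rw [MonoidHom.mem_ker, ← map_one proj, proj_eq_iff, mul_one] at ha
  rcases ha with rfl | rfl
  · exact one_mem _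
  · exact negC_ker

/-- The representation of the centraliser in the quotient. -/
noncomputable def rhoBar : Cz →* isometryGroup (ZMod 2) (quadFormPlus 4 (ZMod 2)) :=
  proj.liftOfSurjective proj_surjective ⟨rho, proj_ker_le⟩

theorem rhoBar_proj (a : Cg) : rhoBar (proj a) = rho a :=
  MonoidHom.liftOfRightInverse_comp_apply proj _ _ _ a

theorem rhoBar_range : rhoBar.range = rho.range := by
  ext x
  constructor
  · rintro ⟨c, rfl⟩
    obtain ⟨a, rfl⟩ := proj_surjective c
    exact ⟨a, (rhoBar_proj a).symm⟩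
  · rintro ⟨a, rfl⟩
    exact ⟨proj a, rhoBar_proj a⟩

theorem rhoBar_ker : rhoBar.ker = Q := by
  ext c
  constructor
  · intro hc
    obtain ⟨a, rfl⟩ := proj_surjective c
    exact ⟨a, by rwa [SetLike.mem_coe, MonoidHom.mem_ker, ← rhoBar_proj], rfl⟩
  · rintro ⟨a, ha, rfl⟩
    rw [MonoidHom.mem_ker, rhoBar_proj]
    exact ha

instance Q_normal : Q.Normal := rhoBar_ker ▸ MonoidHom.normal_ker rhoBar

theorem card_Cg : Nat.card Cg = 135 * (4096 * 322560) := by
  letI : MulAction Cg V := { smul := act, one_smul := act_one, mul_smul := act_mul }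
  have horb : orbit Cg v0 = ↑(univ.filter fun v : V => v ≠ 0 ∧ qf v = 0) := by
    ext v
    rw [coe_filter, Set.mem_setOf_eq]
    exact ⟨fun ⟨h, e⟩ => ⟨mem_univ _, (orbit_v0 v).mp ⟨h, e⟩⟩, fun h => (orbit_v0 v).mpr h.2⟩
  have hst : Nat.card (stabilizer Cg v0) = 4096 * 322560 := by
    rw [← card_code, ← card_setStab_octad oct_octad, ← Nat.card_prod]
    symm
    refine Nat.card_eq_of_bijective (fun x => ⟨monoC x.2 x.1.2, monoC_fix _ _⟩) ⟨?_, ?_⟩
    · rintro ⟨⟨c, hc⟩, σ⟩ ⟨⟨d, hd⟩, τ⟩ e
      obtain ⟨e1, e2⟩ := mono_injective _ _ _ _ (congrArg (fun x : stabilizer Cg v0 => ((x : Cg) : Co0)) e)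
      obtain rfl : σ = τ := Subtype.ext e1
      subst e2
      rfl
    · rintro ⟨h, hh⟩
      obtain ⟨σ, c, hc, rfl⟩ := monomial_of_fix h hh
      exact ⟨(⟨c, hc⟩, σ), rfl⟩
  have h := Subgroup.card_mul_index (stabilizer Cg v0)
  rw [index_stabilizer, horb, Set.ncard_coe_finset, card_singular, hst] at h
  rw [← h, mul_comm]

theorem card_kernel_words : {c : Finset GolayPt | c ∈ code ∧ (c ∩ oct = ∅ ∨ c ∩ oct = oct)}.ncard = 64 := by
  rw [ncard_supports_filter _ (fun m => m &&& 5279 == 0 || m &&& 5279 == 5279) fun m hm => by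
    simp only [Bool.or_eq_true, beq_iff_eq]
    rw [show pts m ∩ oct = pts (m &&& 5279) by ext p; simp [Nat.testBit_and]]
    have hlt : m &&& 5279 < 2 ^ 24 := lt_of_le_of_lt Nat.and_le_left (lt_of_inCode hm)
    refine or_congr ⟨fun e => by rw [e]; decide +kernel, fun e => ?_⟩ ⟨fun e => by rw [e], fun e => ?_⟩
    · exact eq_of_pts_eq hlt (by norm_num) (e.trans (by decide +kernel))
    · exact eq_of_pts_eq hlt (by norm_num) e]
  decide +kernel

theorem same_iff (c : Finset GolayPt) :
    (∀ p ∈ oct, ∀ q ∈ oct, (p ∈ c ↔ q ∈ c)) ↔ (c ∩ oct = ∅ ∨ c ∩ oct = oct) := by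
  constructor
  · intro h
    by_cases h0 : octO 0 ∈ c
    · refine Or.inr (inter_eq_right.mpr fun p hp => ?_)
      exact (h p hp _ (octO_mem 0)).mpr h0
    · refine Or.inl (eq_empty_iff_forall_notMem.mpr fun p hp => ?_)
      exact h0 ((h p (mem_inter.mp hp).2 _ (octO_mem 0)).mp (mem_inter.mp hp).1)
  · rintro (h | h) p hp q hq
    · have := fun r (hr : r ∈ oct) (hrc : r ∈ c) => eq_empty_iff_forall_notMem.mp h r (mem_inter.mpr ⟨hrc, hr⟩)
      exact iff_of_false (this p hp) (this q hq)
    · exact iff_of_true (inter_eq_right.mp h hp) (inter_eq_right.mp h hq)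

theorem card_rho_ker : Nat.card rho.ker = 64 * 16 := by
  rw [← card_kernel_words, ← Nat.card_coe_set_eq, ← (s0381 oct oct_octad).1, ← Nat.card_prod]
  symm
  refine Nat.card_eq_of_bijective (fun x => ⟨monoC ⟨x.2.1, x.2.2.1, smul_eq_of_mem_imp fun p hp => by
      rwa [show x.2.1 p = p from (mem_fixingSubgroup_iff _).mp x.2.2.2 p hp]⟩ x.1.2.1,
    (rho_monoC_eq_one _ _).mpr ⟨fun p hp => (mem_fixingSubgroup_iff _).mp x.2.2.2 p hp,
      (same_iff _).mpr x.1.2.2⟩⟩) ⟨?_, ?_⟩
  · rintro ⟨⟨c, hc⟩, ⟨σ, hσ⟩⟩ ⟨⟨d, hd⟩, ⟨τ, hτ⟩⟩ e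
    obtain ⟨e1, e2⟩ := mono_injective _ _ _ _ (congrArg (fun x : rho.ker => ((x : Cg) : Co0)) e)
    subst e1 e2
    rfl
  · rintro ⟨h, hh⟩
    obtain ⟨σ, c, hc, rfl⟩ := monomial_of_fix h (rho_eq_one.mp hh v0)
    obtain ⟨h1, h2⟩ := (rho_monoC_eq_one _ _).mp hh
    exact ⟨(⟨c, hc, (same_iff _).mp h2⟩, ⟨σ, σ.2.1, (mem_fixingSubgroup_iff _).mpr h1⟩), rfl⟩

theorem card_range : Nat.card rho.range = 174182400 := by
  have h := Subgroup.card_mul_index rho.ker
  rw [Subgroup.index_ker, card_rho_ker, card_Cg] at h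
  omega

theorem omega_center_trivial : Subgroup.center (Omega (ZMod 2) (quadFormPlus 4 (ZMod 2))) = ⊥ := by
  rw [show quadFormPlus 4 (ZMod 2) = ⇑(Classical.HypQuad.plusForm 4 (ZMod 2)) from
    (funext (Classical.HypQuad.plusForm_apply 4)).symm]
  exact Subgroup.card_eq_one.mp (Classical.Refl.center_card_one _
    (Classical.HypQuad.plusForm_nondegenerate 4) (by simp) fun g _ e => by
      rw [e]; ext i j; exact CharTwo.neg_eq _)

theorem card_omega : Nat.card (Omega (ZMod 2) (quadFormPlus 4 (ZMod 2))) = 174182400 := by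
  have h := Cfsg.Agent.S0293.result (F := ZMod 2) (q := 2) (ZMod.card 2) 4 le_rfl
  norm_num [Finset.prod_range_succ] at h
  rw [Subgroup.card_eq_card_quotient_mul_card_subgroup (Subgroup.center (Omega (ZMod 2) (quadFormPlus 4 (ZMod 2)))),
    omega_center_trivial, Subgroup.card_bot, mul_one]
  rw [← h]
  exact congrArg (fun N : Subgroup (Omega (ZMod 2) (quadFormPlus 4 (ZMod 2))) =>
    Nat.card (Omega (ZMod 2) (quadFormPlus 4 (ZMod 2)) ⧸ N)) omega_center_trivial.symm

theorem range_eq_omega : rhoBar.range = Omega (ZMod 2) (quadFormPlus 4 (ZMod 2)) := by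
  rw [rhoBar_range]
  refine Subgroup.eq_of_le_of_card_ge range_le_omega ?_
  rw [card_omega, card_range]

/-- The quotient is the orthogonal group. -/
noncomputable def quotEquiv : Cz ⧸ Q ≃* Omega (ZMod 2) (quadFormPlus 4 (ZMod 2)) :=
  (QuotientGroup.quotientMulEquivOfEq rhoBar_ker.symm).trans
    ((QuotientGroup.quotientKerEquivRange rhoBar).trans (MulEquiv.subgroupCongr range_eq_omega))

theorem finite_Cz : Finite Cz :=
  haveI : Finite Cg := Nat.finite_of_card_ne_zero (by rw [card_Cg]; norm_num)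
  Finite.of_surjective proj proj_surjective

attribute [instance] finite_Cz

theorem arith_Q {a b : ℕ} (h1 : 2 * b = 135 * (4096 * 322560)) (h2 : a * 174182400 = b) : a = 2 ^ 9 := by
  omega

theorem card_Q : Nat.card Q = 2 ^ 9 := by
  have h1 := Subgroup.card_mul_index proj.ker
  rw [Subgroup.index_ker, MonoidHom.range_eq_top.mpr proj_surjective, Subgroup.card_top, card_proj_ker, card_Cg] at h1
  have h2 := Subgroup.card_mul_index Q
  rw [Subgroup.index, Nat.card_congr quotEquiv.toEquiv, card_omega] at h2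
  exact arith_Q h1 h2

/-- The masks of the words disjoint from the octad. -/
def disMasks : List ℕ := codeMasks.filter fun m => m &&& 5279 == 0

theorem transl_dis : (translList.all fun t => disMasks.all fun m =>
    m ^^^ img t m == 0 || m ^^^ img t m == 16771936) = true := by decide +kernel

theorem transl_faithful : (translList.all fun t =>
    (List.range 24).all (fun i => ap t.1 i == i) || disMasks.any fun m => img t m != m) = true := by decide +kernel

theorem transl_fixed : (disMasks.all fun m =>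
    m == 0 || m == 16771936 || translList.any fun t => img t m != m) = true := by decide +kernel

theorem transl_witness : (translList.any fun t => codeMasks.any fun m => m ^^^ img t m != 0 &&
    m ^^^ img t m != 16777215 && m ^^^ img t m != 5279 && m ^^^ img t m != 16771936) = true := by decide +kernel

theorem mask_facts : mk (octᶜ) = 16771936 ∧ mk (∅ : Finset GolayPt) = 0 ∧
    mk (univ : Finset GolayPt) = 16777215 ∧ mk oct = 5279 := by decide +kernel

theorem mk_symmDiff (a b : Finset GolayPt) : Cfsg.Lib.Golay.mk (symmDiff a b) = mk a ^^^ mk b := by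
  refine eq_of_pts_eq (mk_lt _) (Nat.xor_lt_two_pow (mk_lt _) (mk_lt _)) ?_
  rw [pts_mk]
  ext p
  rw [mem_pts, Nat.testBit_xor, mem_symmDiff]
  rw [← testBit_mk a, ← testBit_mk b]
  cases (Cfsg.Lib.Golay.mk a).testBit (pidx p) <;> cases (Cfsg.Lib.Golay.mk b).testBit (pidx p) <;> simp

/-- A pointwise stabiliser of the octad. -/
def Fixes (σ : setStab oct) : Prop := ∀ p ∈ oct, (σ : Equiv.Perm GolayPt) p = p

/-- A word avoiding the octad. -/
def Avoids (c : Finset GolayPt) : Prop := ∀ p ∈ oct, p ∉ c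

theorem avoids_mask {c : Finset GolayPt} (hc : c ∈ code) (h : Avoids c) : mk c ∈ disMasks := by
  refine List.mem_filter.mpr ⟨mem_codeMasks.mpr ((mem_supports_iff c).mp hc), beq_iff_eq.mpr ?_⟩
  refine eq_of_pts_eq (lt_of_le_of_lt Nat.and_le_left (mk_lt _)) (by norm_num) ?_
  rw [show pts (mk c &&& 5279) = c ∩ oct by ext p; simp [Nat.testBit_and], show pts 0 = ∅ by decide +kernel]
  exact eq_empty_iff_forall_notMem.mpr fun p hp => h p (mem_inter.mp hp).2 (mem_inter.mp hp).1

theorem fixes_transl {σ : setStab oct} (h : Fixes σ) :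
    ∃ t ∈ translList, valid 24 t = true ∧ (σ : Equiv.Perm GolayPt) = toP t := by
  obtain ⟨t, ht, e⟩ := eq_transl σ.2.1 (fun i => h _ (oct0_std.2.1 i)) (h _ oct0_std.2.2.1)
  have h' := translOK_eq
  simp only [translOK, Bool.and_eq_true, List.all_eq_true] at h'
  have hp := (h'.1 t ht).1
  simp only [preserves, Bool.and_eq_true] at hp
  exact ⟨t, ht, hp.1, e⟩

theorem exists_fixes {t : Cfsg.Lib.PermCert.PP} (ht : t ∈ translList) :
    ∃ σ : setStab oct, Fixes σ ∧ valid 24 t = true ∧ (σ : Equiv.Perm GolayPt) = toP t := by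
  obtain ⟨hM, hf, -⟩ := fix_octad_of_base ht rfl
  have h' := translOK_eq
  simp only [translOK, Bool.and_eq_true, List.all_eq_true] at h'
  have hp := (h'.1 t ht).1
  simp only [preserves, Bool.and_eq_true] at hp
  exact ⟨⟨toP t, hM, smul_eq_of_mem_imp fun p hp => by rwa [hf p hp]⟩, hf, hp.1, rfl⟩

theorem fixes_sq {σ : setStab oct} (h : Fixes σ) : σ * σ = 1 :=
  Subtype.ext ((s0381 oct oct_octad).2 _ ⟨σ.2.1, (mem_fixingSubgroup_iff _).mpr h⟩)

theorem fixes_comm {σ τ : setStab oct} (hσ : Fixes σ) (hτ : Fixes τ) : σ * τ = τ * σ := by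
  have h := fixes_sq (σ := σ * τ) fun p hp => by
    rw [Subgroup.coe_mul, Equiv.Perm.mul_apply, hτ p hp, hσ p hp]
  have e1 := inv_eq_of_mul_eq_one_right h
  rw [mul_inv_rev, inv_eq_of_mul_eq_one_right (fixes_sq hσ), inv_eq_of_mul_eq_one_right (fixes_sq hτ)] at e1
  exact e1.symm

theorem avoids_diff {σ : setStab oct} (h : Fixes σ) {c : Finset GolayPt} (hc : c ∈ code) (ha : Avoids c) :
    symmDiff c ((σ : Equiv.Perm GolayPt) • c) = ∅ ∨ symmDiff c ((σ : Equiv.Perm GolayPt) • c) = octᶜ := by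
  obtain ⟨t, ht, hv, e⟩ := fixes_transl h
  have h1 := List.all_eq_true.mp (List.all_eq_true.mp transl_dis t ht) _ (avoids_mask hc ha)
  rw [Bool.or_eq_true, beq_iff_eq, beq_iff_eq, ← mk_smul hv, ← e, ← mk_symmDiff] at h1
  rcases h1 with h1 | h1
  · exact Or.inl (mk_injective (h1.trans mask_facts.2.1.symm))
  · exact Or.inr (mk_injective (h1.trans mask_facts.1.symm))

theorem compl_code : octᶜ ∈ code := compl_mem_supports oct_code

theorem proj_flip_compl : proj (monoC 1 compl_code) = ⟨zInv, Subgroup.mem_centralizer_singleton_iff.mpr rfl⟩ := by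
  have e : proj ⟨g0, Subgroup.mem_centralizer_singleton_iff.mpr rfl⟩ =
      ⟨zInv, Subgroup.mem_centralizer_singleton_iff.mpr rfl⟩ := rfl
  rw [← e, proj_eq_iff]
  right
  refine Subtype.ext ?_
  show mono _ compl_code = mono (one_mem M24) univ_mem_code * mono (one_mem M24) oct_code
  rw [flip_mul]
  exact mono_congr _ _ _ _ rfl (by ext p; simp [mem_symmDiff])

theorem mem_Q {q : Cz} (hq : q ∈ Q) : ∃ (σ : setStab oct) (c : Finset GolayPt) (hc : c ∈ code),
    Fixes σ ∧ Avoids c ∧ q = proj (monoC σ hc) := by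
  obtain ⟨a, ha, rfl⟩ := hq
  obtain ⟨σ, c, hc, rfl⟩ := monomial_of_fix a (rho_eq_one.mp ha v0)
  obtain ⟨h1, h2⟩ := (rho_monoC_eq_one _ _).mp ha
  by_cases h0 : octO 0 ∈ c
  · refine ⟨σ, cᶜ, compl_mem_supports hc, h1, fun p hp => ?_, ?_⟩
    · simpa using (h2 p hp _ (octO_mem 0)).mpr h0
    · rw [proj_eq_iff]
      right
      rw [negC, monoC_mul]
      exact monoC_congr _ _ (one_mul σ).symm (by ext p; simp [mem_symmDiff])
  · exact ⟨σ, c, hc, h1, fun p hp hpc => h0 ((h2 p hp _ (octO_mem 0)).mp hpc), rfl⟩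

theorem mem_Q_of {σ : setStab oct} {c : Finset GolayPt} (hc : c ∈ code) (hσ : Fixes σ) (ha : Avoids c) :
    proj (monoC σ hc) ∈ Q :=
  ⟨_, (rho_monoC_eq_one _ _).mpr ⟨hσ, fun p hp q hq => iff_of_false (ha p hp) (ha q hq)⟩, rfl⟩

/-- The involution inside its centraliser. -/
noncomputable def zC : Cz := ⟨zInv, Subgroup.mem_centralizer_singleton_iff.mpr rfl⟩

theorem proj_flip_cases {e : Finset GolayPt} (he : e ∈ code) (h : e = ∅ ∨ e = octᶜ) :
    proj (monoC 1 he) = 1 ∨ proj (monoC 1 he) = zC := by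
  rcases h with rfl | rfl
  · exact Or.inl (by rw [monoC_one, map_one])
  · exact Or.inr proj_flip_compl

theorem two_cases {a b : Finset GolayPt} (ha : a = ∅ ∨ a = octᶜ) (hb : b = ∅ ∨ b = octᶜ) :
    symmDiff a b = ∅ ∨ symmDiff a b = octᶜ := by
  rcases ha with rfl | rfl <;> rcases hb with rfl | rfl <;> simp [← bot_eq_empty]

theorem monoC_comm {σ τ : setStab oct} {c d : Finset GolayPt} (hσ : Fixes σ) (hτ : Fixes τ) (hc : c ∈ code)
    (hd : d ∈ code) : monoC σ hc * monoC τ hd = monoC 1 (symmDiff_mem_supports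
      (symmDiff_mem_supports hc (smul_mem_code τ.2.1 hc)) (symmDiff_mem_supports hd (smul_mem_code σ.2.1 hd))) *
      (monoC τ hd * monoC σ hc) := by
  rw [monoC_mul, monoC_mul, monoC_mul]
  refine monoC_congr _ _ (by rw [one_mul, fixes_comm hσ hτ]) ?_
  rw [OneMemClass.coe_one, one_smul]
  ext p
  simp only [mem_symmDiff]
  tauto

theorem center_cases {σ : setStab oct} {c : Finset GolayPt} (hc : c ∈ code) (hσ : Fixes σ) (ha : Avoids c)
    (hcomm : ∀ b ∈ Q, Commute b (proj (monoC σ hc))) :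
    proj (monoC σ hc) = 1 ∨ proj (monoC σ hc) = zC := by
  have key : ∀ (τ : setStab oct) (d : Finset GolayPt) (hd : d ∈ code), Fixes τ → Avoids d →
      symmDiff (symmDiff c ((τ : Equiv.Perm GolayPt) • c)) (symmDiff d ((σ : Equiv.Perm GolayPt) • d)) = ∅ := by
    intro τ d hd hτ had
    have h := (hcomm _ (mem_Q_of hd hτ had)).eq.symm
    rw [← map_mul, ← map_mul, proj_eq_iff, monoC_comm hσ hτ hc hd, mul_eq_right] at h
    rcases h with h | h
    · exact (mono_injective _ _ _ empty_mem_code ((congrArg Subtype.val h).trans flip_empty.symm)).2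
    · have h' := (mono_injective _ _ _ _ (congrArg Subtype.val (mul_right_cancel h))).2
      rcases two_cases (avoids_diff hτ hc ha) (avoids_diff hσ hd had) with e | e <;> rw [e] at h'
      · exact absurd h' (by decide +kernel)
      · exact absurd h' (by decide +kernel)
  have h1 : Fixes (1 : setStab oct) := fun _ _ => rfl
  have hσ1 : ∀ d, d ∈ code → Avoids d → (σ : Equiv.Perm GolayPt) • d = d := fun d hd had => by
    have := key 1 d hd h1 had
    rw [OneMemClass.coe_one, one_smul, symmDiff_self, bot_symmDiff] at this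
    exact (symmDiff_eq_bot.mp this).symm
  have hσe : σ = 1 := by
    obtain ⟨t, ht, hv, e⟩ := fixes_transl hσ
    have h := List.all_eq_true.mp transl_faithful t ht
    rw [Bool.or_eq_true] at h
    rcases h with h | h
    · refine Subtype.ext (Equiv.ext fun p => pidx_injective ?_)
      rw [e, pidx_toP hv]
      exact beq_iff_eq.mp (List.all_eq_true.mp h _ (List.mem_range.mpr (pidx_lt p)))
    · obtain ⟨m, hm, hne⟩ := List.any_eq_true.mp h
      obtain ⟨hm1, hm2⟩ := List.mem_filter.mp hm
      refine absurd ?_ (bne_iff_ne.mp hne)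
      have hmc := mem_codeMasks.mp hm1
      have had : Avoids (pts m) := fun p hp hpm => by
        have := congrArg (fun n => Nat.testBit n (pidx p)) (beq_iff_eq.mp hm2)
        simp [Nat.testBit_and, mem_pts.mp hp, mem_pts.mp hpm] at this
      have hcode : pts m ∈ code := (mem_supports_iff _).mpr (by rwa [mk_pts (lt_of_inCode hmc)])
      have h2 := congrArg Cfsg.Lib.Golay.mk (hσ1 _ hcode had)
      rwa [e, mk_smul hv, mk_pts (lt_of_inCode hmc)] at h2
  subst hσe
  refine proj_flip_cases hc ?_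
  have h := List.all_eq_true.mp transl_fixed _ (avoids_mask hc ha)
  simp only [Bool.or_eq_true, beq_iff_eq, List.any_eq_true, bne_iff_ne] at h
  rcases h with (h | h) | ⟨t, ht, hne⟩
  · exact Or.inl (mk_injective (h.trans mask_facts.2.1.symm))
  · exact Or.inr (mk_injective (h.trans mask_facts.1.symm))
  · refine absurd ?_ hne
    obtain ⟨τ, hτ, hv, e⟩ := exists_fixes ht
    have := key τ ∅ empty_mem_code hτ fun p _ => notMem_empty p
    rw [OneMemClass.coe_one, one_smul, symmDiff_self, symmDiff_bot] at this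
    rw [← mk_smul hv, ← e, ← symmDiff_eq_bot.mp this]

theorem isExtraspecial_Q : IsExtraspecial 2 Q := by
  have hz1 : zC ≠ 1 := fun h => by
    have := orderOf_zInv
    rw [show zInv = 1 from congrArg Subtype.val h, orderOf_one] at this
    omega
  have hzQ : zC ∈ Q := by
    rw [show zC = proj (monoC 1 compl_code) from proj_flip_compl.symm]
    exact mem_Q_of _ (fun _ _ => rfl) fun p hp h => mem_compl.mp h hp
  refine Cfsg.Lib.LargeExtra.isExtraspecial_of (z := zC) (IsPGroup.of_card card_Q) hzQ hz1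
    (Subtype.ext (by
      show zInv * zInv = 1
      rw [← pow_two, ← orderOf_zInv, pow_orderOf_eq_one]))
    (fun a _ => Subtype.ext (Subgroup.mem_centralizer_singleton_iff.mp a.2)) ?_ ?_ ?_ ?_
  · intro a ha b hb
    obtain ⟨σ, c, hc, hσ, hca, rfl⟩ := mem_Q ha
    obtain ⟨τ, d, hd, hτ, hda, rfl⟩ := mem_Q hb
    rw [← map_commutatorElement, commutatorElement_def, monoC_comm hσ hτ hc hd, mul_assoc, mul_assoc, mul_assoc,
      mul_inv_cancel_left, mul_inv_cancel, mul_one]
    exact proj_flip_cases _ (two_cases (avoids_diff hτ hc hca) (avoids_diff hσ hd hda))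
  · intro a ha
    obtain ⟨σ, c, hc, hσ, hca, rfl⟩ := mem_Q ha
    rw [← map_mul, monoC_mul, monoC_congr _ (symmDiff_mem_supports hc (smul_mem_code σ.2.1 hc)) (fixes_sq hσ) rfl]
    exact proj_flip_cases _ (avoids_diff hσ hc hca)
  · intro q hq hall
    obtain ⟨σ, c, hc, hσ, hca, rfl⟩ := mem_Q hq
    exact center_cases hc hσ hca hall
  · by_contra! hna
    have hcard := card_Q
    have hle : (Q : Set Cz) ⊆ {1, zC} := fun q hq => by
      obtain ⟨σ, c, hc, hσ, hca, rfl⟩ := mem_Q hq
      exact center_cases hc hσ hca fun b hb => hna b hb _ hq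
    have := Set.ncard_le_ncard hle
    rw [← Nat.card_coe_set_eq, SetLike.coe_sort_coe, hcard, Set.ncard_pair hz1.symm] at this
    omega

theorem omega_simple : IsSimpleGroup (Omega (ZMod 2) (quadFormPlus 4 (ZMod 2))) := by
  haveI : IsSimpleGroup (POmega (ZMod 2) (quadFormPlus 4 (ZMod 2))) := Cfsg.Agent.S0296.result 4 le_rfl
  exact ((QuotientGroup.quotientMulEquivOfEq omega_center_trivial).trans
    QuotientGroup.quotientBot).symm.isSimpleGroup

theorem omega_not_solvable : ¬ Group.IsSolvable (Omega (ZMod 2) (quadFormPlus 4 (ZMod 2))) := by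
  intro h
  haveI := omega_simple
  haveI : IsMulCommutative (Omega (ZMod 2) (quadFormPlus 4 (ZMod 2))) :=
    ⟨⟨IsSimpleGroup.comm_iff_isSolvable.mpr h⟩⟩
  haveI : Finite (Omega (ZMod 2) (quadFormPlus 4 (ZMod 2))) :=
    Nat.finite_of_card_ne_zero (by rw [card_omega]; norm_num)
  have hp := Group.is_simple_iff_prime_card.mp omega_simple
  rw [card_omega] at hp
  norm_num at hp

theorem centralizer_Q_le : Subgroup.centralizer (Q : Set Cz) ≤ Q := by
  haveI : IsSimpleGroup (Cz ⧸ Q) := haveI := omega_simple; quotEquiv.isSimpleGroup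
  set M := Subgroup.centralizer (Q : Set Cz) with hM
  haveI : M.Normal := Subgroup.normal_centralizer
  rcases (Subgroup.Normal.map (inferInstance : M.Normal) (QuotientGroup.mk' Q)
    (QuotientGroup.mk'_surjective Q)).eq_bot_or_eq_top with h | h
  · rwa [Subgroup.map_eq_bot_iff, QuotientGroup.ker_mk'] at h
  · exfalso
    obtain ⟨t, ht, h'⟩ := List.any_eq_true.mp transl_witness
    obtain ⟨m, hm, hne⟩ := List.any_eq_true.mp h'
    simp only [Bool.and_eq_true, bne_iff_ne] at hne
    have hmc := mem_codeMasks.mp hm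
    have hcode : pts m ∈ code := (mem_supports_iff _).mpr (by rwa [mk_pts (lt_of_inCode hmc)])
    obtain ⟨τ, hτ, hv, e⟩ := exists_fixes ht
    set x := proj (monoC 1 hcode)
    obtain ⟨y, hy, hyx⟩ : (x : Cz ⧸ Q) ∈ M.map (QuotientGroup.mk' Q) := h ▸ Subgroup.mem_top _
    have hq : x⁻¹ * y ∈ Q := QuotientGroup.eq.mp hyx.symm
    set b := proj (monoC τ empty_mem_code)
    have hb : b ∈ Q := mem_Q_of _ hτ fun p _ => notMem_empty p
    obtain ⟨σ', c', hc', hσ', hca', hqe'⟩ := mem_Q (inv_mem hq)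
    obtain ⟨e', he', hcases, hconj⟩ : ∃ (e' : Finset GolayPt) (he' : e' ∈ code), (e' = ∅ ∨ e' = octᶜ) ∧
        x * b * x⁻¹ = proj (monoC 1 he') * b := by
      refine ⟨_, symmDiff_mem_supports (symmDiff_mem_supports hc' (smul_mem_code τ.2.1 hc'))
        (symmDiff_mem_supports empty_mem_code (smul_mem_code σ'.2.1 empty_mem_code)),
        two_cases (avoids_diff hτ hc' hca') (avoids_diff hσ' empty_mem_code fun p _ => notMem_empty p), ?_⟩
      have hcom := congrArg proj (monoC_comm hσ' hτ hc' empty_mem_code)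
      rw [map_mul, map_mul, map_mul, ← hqe'] at hcom
      set pe := proj (monoC 1 (symmDiff_mem_supports (symmDiff_mem_supports hc' (smul_mem_code τ.2.1 hc'))
        (symmDiff_mem_supports empty_mem_code (smul_mem_code σ'.2.1 empty_mem_code)))) with hpe
      set q' := (x⁻¹ * y)⁻¹ with hq'
      have hqb : q' * b * q'⁻¹ = pe * b := by
        rw [show q' * b = pe * (b * q') from hcom]; group
      have hmem : pe * b ∈ Q := hqb ▸ mul_mem (mul_mem (inv_mem hq) hb) (inv_mem (inv_mem hq))
      calc x * b * x⁻¹ = y * (q' * b * q'⁻¹) * y⁻¹ := by rw [hq']; group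
        _ = y * (pe * b) * y⁻¹ := by rw [hqb]
        _ = pe * b := by rw [← Subgroup.mem_centralizer_iff.mp hy _ hmem]; group
    have h3 : proj (monoC 1 (symmDiff_mem_supports hcode (smul_mem_code τ.2.1 hcode))) = proj (monoC 1 he') := by
      refine mul_right_cancel (b := b) ?_
      rw [← hconj]
      have hxb : x * b * x⁻¹ = proj (monoC 1 hcode * monoC τ empty_mem_code * (monoC 1 hcode)⁻¹) := by
        rw [map_mul, map_mul, map_inv]
      rw [hxb, ← map_mul]
      refine congrArg proj ?_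
      rw [inv_eq_of_mul_eq_one_right (b := monoC 1 hcode) (by
        rw [flip_mul', monoC_congr _ empty_mem_code rfl (symmDiff_self _), monoC_one])]
      rw [monoC_mul, monoC_mul, monoC_mul]
      exact monoC_congr _ _ (by simp) (by simp [← bot_eq_empty])
    have hms : Cfsg.Lib.Golay.mk (symmDiff (pts m) ((τ : Equiv.Perm GolayPt) • pts m)) = m ^^^ img t m := by
      rw [mk_symmDiff, e, mk_smul hv, mk_pts (lt_of_inCode hmc)]
    rw [proj_eq_iff, negC, flip_mul'] at h3
    rcases h3 with h3 | h3 <;>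
      have h4 := congrArg Cfsg.Lib.Golay.mk (mono_injective _ _ _ _ (congrArg Subtype.val h3)).2 <;>
      rw [hms] at h4 <;> rcases hcases with rfl | rfl
    · exact hne.1.1.1 (h4.trans mask_facts.2.1)
    · exact hne.2 (h4.trans mask_facts.1)
    · exact hne.1.1.2 (h4.trans ((congrArg _ (symmDiff_bot _)).trans mask_facts.2.2.1))
    · exact hne.1.2 (h4.trans (by rw [mk_symmDiff, mask_facts.1, mask_facts.2.2.1]; rfl))

theorem genFitting_eq : generalizedFittingSubgroup Cz = Q := by
  haveI : IsSimpleGroup (Cz ⧸ Q) := haveI := omega_simple; quotEquiv.isSimpleGroup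
  have hQF : Q ≤ fittingSubgroup Cz :=
    le_sSup ⟨Q_normal, (IsPGroup.of_card card_Q).isNilpotent⟩
  have hFQ : fittingSubgroup Cz ≤ Q := by
    have hn : ((fittingSubgroup Cz).map (QuotientGroup.mk' Q)).Normal :=
      Subgroup.Normal.map inferInstance _ (QuotientGroup.mk'_surjective Q)
    rcases hn.eq_bot_or_eq_top with h | h
    · rwa [Subgroup.map_eq_bot_iff, QuotientGroup.ker_mk'] at h
    · exfalso
      refine omega_not_solvable ?_
      haveI := Cfsg.Lib.Components.isSolvable_fitting (G := Cz)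
      refine Group.isSolvable_of_surjective
        (f := (quotEquiv.toMonoidHom.comp ((QuotientGroup.mk' Q).comp (fittingSubgroup Cz).subtype))) fun w => ?_
      obtain ⟨a, ha, hae⟩ : quotEquiv.symm w ∈ (fittingSubgroup Cz).map (QuotientGroup.mk' Q) :=
        h ▸ Subgroup.mem_top _
      exact ⟨⟨a, ha⟩, by
        show quotEquiv (QuotientGroup.mk' Q a) = w
        rw [hae, MulEquiv.apply_symm_apply]⟩
  refine le_antisymm (sup_le ?_ hFQ) (hQF.trans le_sup_right)
  refine le_trans ?_ centralizer_Q_le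
  exact ((Subgroup.commutator_eq_bot_iff_le_centralizer.mp Cfsg.Lib.Components.layer_commute_fitting)).trans
    (Subgroup.centralizer_le hQF)

theorem octad_witness : (octMasks.any fun m => m &&& 5279 == 0) = true := by decide +kernel

theorem not_weakly_closed : ∃ g : Spor.Co1,
    (∃ hq : g * zInv * g⁻¹ ∈ Cz, (⟨g * zInv * g⁻¹, hq⟩ : Cz) ∈ Q) ∧ g * zInv * g⁻¹ ≠ zInv := by
  obtain ⟨m, hm, hdis⟩ := List.any_eq_true.mp octad_witness
  set o := pts m
  have ho : o ∈ octads := octMask_octad hm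
  obtain ⟨σ, hσ⟩ := M24_octads_transitive oct_octad ho
  have hav : Avoids o := fun p hp hpm => by
    have := congrArg (fun n => Nat.testBit n (pidx p)) (beq_iff_eq.mp hdis)
    simp [Nat.testBit_and, mem_pts.mp hp, mem_pts.mp hpm] at this
  have hconj : permEmb σ * g0 * (permEmb σ)⁻¹ = mono (one_mem M24) ho.1 := by
    rw [g0, permEmb_conj]
    exact mono_congr _ _ _ _ rfl hσ
  have e : (QuotientGroup.mk (permEmb σ) : Spor.Co1) * zInv * (QuotientGroup.mk (permEmb σ))⁻¹ =
      ((proj (monoC 1 ho.1) : Cz) : Spor.Co1) := by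
    rw [zInv, ← QuotientGroup.mk_inv, ← QuotientGroup.mk_mul, ← QuotientGroup.mk_mul, hconj]
    rfl
  refine ⟨QuotientGroup.mk (permEmb σ), ⟨by rw [e]; exact (proj (monoC 1 ho.1)).2, ?_⟩, ?_⟩
  · rw [show (⟨_, _⟩ : Cz) = proj (monoC 1 ho.1) from Subtype.ext e]
    exact mem_Q_of _ (fun _ _ => rfl) hav
  · rw [e]
    intro h
    have h' : proj (monoC 1 ho.1) = zC := Subtype.ext h
    rw [show zC = proj (monoC 1 compl_code) from proj_flip_compl.symm, proj_eq_iff, negC, flip_mul'] at h'
    rcases h' with h' | h'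
    · have := congrArg Finset.card (mono_injective _ _ _ _ (congrArg Subtype.val h')).2
      rw [ho.2, card_compl, oct_octad.2] at this
      simp at this
    · have h2 := (mono_injective _ _ _ _ (congrArg Subtype.val h')).2
      have hp : octO 0 ∈ o := by
        rw [h2, mem_symmDiff]
        exact Or.inl ⟨mem_univ _, fun h => mem_compl.mp h (octO_mem 0)⟩
      exact hav _ (octO_mem 0) hp

end Cfsg.Lib.Leech.Co1Inv
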