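import Cfsg.Agent.Leech.Co1Inv.Model
import Cfsg.Agent.Leech.Co1Simple
import Cfsg.Agent.Leech.Pairs
import Cfsg.Agent.Leech.StabClass
import Cfsg.Agent.Golay.Translations
import Cfsg.Prelude.Def_Classical

/-!
The centraliser of the sign change on an octad acts on the lattice vectors supported there, modulo two.
-/

set_option autoImplicit false

namespace Cfsg.Lib.Leech.Co1Inv

open Cfsg Cfsg.Lib.Golay Finset MulAction

/-- The points of the octad, the two tetrads in turn. -/
def octO : Fin 8 → GolayPt := fun k => ptAt (![0, 1, 2, 3, 4, 7, 10, 12] k)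

/-- The octad. -/
abbrev oct : Finset GolayPt := stdOct₀

theorem oct_facts : Function.Injective octO ∧ oct = univ.image octO ∧
    (∀ k : Fin 8, tetIdx (octO k) = if k.val < 4 then 0 else 1) ∧
    (∀ p, p ∈ oct ↔ (tetIdx p = 0 ∨ tetIdx p = 1)) := by decide +kernel

theorem octO_mem (k : Fin 8) : octO k ∈ oct := by
  rw [oct_facts.2.1]; exact mem_image_of_mem _ (mem_univ k)

theorem exists_octO {p : GolayPt} (hp : p ∈ oct) : ∃ k, octO k = p := by
  rw [oct_facts.2.1, mem_image] at hp
  obtain ⟨k, -, hk⟩ := hp
  exact ⟨k, hk⟩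

theorem oct_octad : oct ∈ octads := oct0_std.1

theorem oct_code : oct ∈ code := oct_octad.1

/-- Restriction to the octad. -/
def res (x : GolayPt → ℤ) : W := fun k => x (octO k)

/-- Extension by zero. -/
def up (y : W) : GolayPt → ℤ := fun p => ∑ k, if octO k = p then y k else 0

theorem up_apply (y : W) (k : Fin 8) : up y (octO k) = y k := by
  simp only [up]
  rw [sum_eq_single k (fun j _ hj => if_neg fun e => hj (oct_facts.1 e)) (by simp), if_pos rfl]

theorem res_up (y : W) : res (up y) = y := funext (up_apply y)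

theorem up_off (y : W) {p : GolayPt} (hp : p ∉ oct) : up y p = 0 :=
  sum_eq_zero fun k _ => if_neg fun e => hp (by rw [← e]; exact octO_mem k)

/-- Vectors supported on the octad. -/
def Supp (v : leechLattice) : Prop := ∀ p, p ∉ oct → (v : GolayPt → ℤ) p = 0

theorem up_res {x : GolayPt → ℤ} (h : ∀ p, p ∉ oct → x p = 0) : up (res x) = x := by
  funext p
  by_cases hp : p ∈ oct
  · obtain ⟨k, rfl⟩ := exists_octO hp
    rw [up_apply]; rfl
  · rw [up_off _ hp, h p hp]

theorem sum_oct {x : GolayPt → ℤ} (h : ∀ p, p ∉ oct → x p = 0) : ∑ p, x p = ∑ k, x (octO k) := by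
  rw [← sum_subset (subset_univ oct) fun p _ hp => h p hp, oct_facts.2.1, sum_image fun a _ b _ e => oct_facts.1 e]

theorem up_mem {y : W} (h : InM y) : up y ∈ leechLattice := by
  have h2 := h.two
  have h8 := h.eight
  have hsum : ∀ z : W, ∑ p, up z p = ∑ k, z k := fun z => by
    rw [sum_oct fun p hp => up_off z hp]
    exact sum_congr rfl fun k _ => up_apply z k
  rcases (by omega : y 0 % 4 = 0 ∨ y 0 % 4 = 2) with h0 | h0
  · refine mem_lattice.mpr ⟨0, ∅, up fun k => y k / 4, empty_mem_code, fun p => ?_, ?_⟩
    · by_cases hp : p ∈ oct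
      · obtain ⟨k, rfl⟩ := exists_octO hp
        have := h.four k
        simp only [up_apply, indZ, notMem_empty, if_false]
        omega
      · simp [up_off _ hp, indZ]
    · rw [hsum]
      have : ∑ k, y k = 4 * ∑ k, y k / 4 := by
        rw [mul_sum]; exact sum_congr rfl fun k _ => by have := h.four k; omega
      omega
  · refine mem_lattice.mpr ⟨0, oct, up fun k => y k / 4, oct_code, fun p => ?_, ?_⟩
    · by_cases hp : p ∈ oct
      · obtain ⟨k, rfl⟩ := exists_octO hp
        have := h.four k
        simp only [up_apply, indZ, if_pos (octO_mem k)]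
        omega
      · simp [up_off _ hp, indZ, hp]
    · rw [hsum]
      have : ∑ k, y k = 4 * (∑ k, y k / 4) + 16 := by
        rw [show (16 : ℤ) = ∑ _k : Fin 8, (2 : ℤ) by simp, mul_sum, ← sum_add_distrib]
        exact sum_congr rfl fun k _ => by have := h.four k; omega
      omega

theorem code_in_oct {c : Finset GolayPt} (hc : c ∈ code) (hs : c ⊆ oct) : c = ∅ ∨ c = oct := by
  rcases c.eq_empty_or_nonempty with h | h
  · exact Or.inl h
  · refine Or.inr (eq_of_subset_of_card_le hs ?_)
    rw [oct_octad.2]
    by_contra hlt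
    exact small_not_code (card_pos.mpr h) (by omega) hc

theorem res_mem {v : leechLattice} (hv : Supp v) : InM (res v) := by
  obtain ⟨m, c, z, hd⟩ := mem_lattice.mp v.2
  obtain ⟨p₀, hp₀⟩ : ∃ p, p ∉ oct := exists_not_mem_octad oct_octad
  have hm : m % 2 = 0 := by
    have h := hd.hx p₀
    rw [hv p₀ hp₀] at h
    omega
  have hconst : ∀ p ∈ oct, ∀ q ∈ oct, indZ c p = indZ c q := by
    have hout : ∀ p, p ∉ oct → (2 * indZ c p + m) % 4 = 0 := fun p hp => by
      have h := hd.hx p
      rw [hv p hp] at h
      omega
    intro p hp q hq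
    rcases (by omega : m % 4 = 0 ∨ m % 4 = 2) with h4 | h4
    · have hs : c ⊆ oct := fun r hr => by
        by_contra hro
        have := hout r hro
        simp only [indZ, hr, if_true] at this
        omega
      rcases code_in_oct hd.hc hs with e | e <;> simp [indZ, e, hp, hq]
    · have hs : cᶜ ⊆ oct := fun r hr => by
        by_contra hro
        have := hout r hro
        simp only [indZ, mem_compl.mp hr, if_false] at this
        omega
      rcases code_in_oct (compl_mem_supports hd.hc) hs with e | e <;>
        · have e' := congrArg compl e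
          rw [compl_compl] at e'
          simp [indZ, e', hp, hq]
  refine ⟨fun k => ?_, ?_, ?_⟩
  · show (v : GolayPt → ℤ) (octO k) % 4 = (v : GolayPt → ℤ) (octO 0) % 4
    rw [hd.hx, hd.hx, hconst _ (octO_mem k) _ (octO_mem 0)]
    omega
  · show (v : GolayPt → ℤ) (octO 0) % 2 = 0
    rw [hd.hx]; omega
  · show (∑ k, (v : GolayPt → ℤ) (octO k)) % 8 = 0
    rw [← sum_oct hv, hd.sum]
    obtain ⟨b, hb⟩ := four_dvd_card hd.hc
    have := hd.hz
    omega

/-- Extension into the lattice. -/
def upL (y : W) (h : InM y) : leechLattice := ⟨up y, up_mem h⟩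

theorem upL_supp (y : W) (h : InM y) : Supp (upL y h) := fun _ hp => up_off y hp

theorem Supp.add {v w : leechLattice} (hv : Supp v) (hw : Supp w) : Supp (v + w) := fun p hp => by
  simp [hv p hp, hw p hp]

theorem res_add (v w : leechLattice) : res ((v + w : leechLattice) : GolayPt → ℤ) = res v + res w := rfl

theorem res_injective {v w : leechLattice} (hv : Supp v) (hw : Supp w) (h : res v = res w) : v = w :=
  Subtype.ext (by rw [← up_res hv, h, up_res hw])

/-- The sign change on the octad. -/
noncomputable def g0 : Co0 := mono (one_mem M24) oct_code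

theorem g0_apply (v : leechLattice) (p : GolayPt) :
    ((g0 • v : leechLattice) : GolayPt → ℤ) p = if p ∈ oct then -(v : GolayPt → ℤ) p else (v : GolayPt → ℤ) p := rfl

theorem supp_iff (v : leechLattice) : Supp v ↔ g0 • v = -v := by
  constructor
  · intro h
    refine Subtype.ext (funext fun p => ?_)
    rw [g0_apply, AddSubgroup.coe_neg, Pi.neg_apply]
    split
    · rfl
    · rename_i hp
      rw [h p hp, neg_zero]
  · intro h p hp
    have := congrFun (congrArg Subtype.val h) p
    rw [g0_apply, if_neg hp, AddSubgroup.coe_neg, Pi.neg_apply] at this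
    omega

/-- The centraliser. -/
abbrev Cg : Subgroup Co0 := Subgroup.centralizer ({g0} : Set Co0)

theorem Supp.smul {v : leechLattice} (hv : Supp v) (h : Cg) : Supp ((h : Co0) • v) := by
  rw [supp_iff, ← mul_smul, ← Subgroup.mem_centralizer_singleton_iff.mp h.2, mul_smul, (supp_iff v).mp hv,
    smul_neg']

theorem ip_res {v w : leechLattice} (hv : Supp v) :
    ip (res v) (res w) = dotInt (v : GolayPt → ℤ) w :=
  (sum_oct (x := fun p => (v : GolayPt → ℤ) p * (w : GolayPt → ℤ) p) fun p hp => by simp [hv p hp]).symm

/-- A representative in the lattice. -/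
def secL (v : V) : leechLattice := upL (sec v) (sec_mem v)

theorem secL_supp (v : V) : Supp (secL v) := upL_supp _ _

theorem kap_secL (v : V) : kap (res (secL v)) = v := by
  rw [show res (secL v) = sec v from res_up _, (sec_facts v).1]

/-- The action modulo two. -/
noncomputable def act (h : Cg) (v : V) : V := kap (res ((h : Co0) • secL v : leechLattice))

theorem act_kap (h : Cg) {x : leechLattice} (hx : Supp x) :
    act h (kap (res x)) = kap (res ((h : Co0) • x : leechLattice)) := by
  obtain ⟨w, hw, e⟩ := exists_half (res_mem hx)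
  have e' : x = secL (kap (res x)) + (upL w hw + upL w hw) := by
    refine res_injective hx ((secL_supp _).add ((upL_supp _ _).add (upL_supp _ _))) ?_
    conv_lhs => rw [e]
    rw [res_add, res_add, secL, show res (upL (sec (kap (res x))) (sec_mem _) : GolayPt → ℤ) = _ from res_up _,
      show res (upL w hw : GolayPt → ℤ) = w from res_up _]
  rw [congrArg (fun u : leechLattice => kap (res ((h : Co0) • u : leechLattice))) e', act]
  simp only [smul_add', res_add]
  rw [kap_add (res_mem ((secL_supp _).smul h)), kap_twice (res_mem ((upL_supp _ _).smul h)), add_zero]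

theorem act_add (h : Cg) (v w : V) : act h (v + w) = act h v + act h w := by
  have e : kap (res (secL v + secL w : leechLattice)) = v + w := by
    rw [res_add, kap_add (res_mem (secL_supp v)), kap_secL, kap_secL]
  conv_lhs => rw [← e]
  rw [act_kap h ((secL_supp v).add (secL_supp w)), smul_add', res_add, kap_add (res_mem ((secL_supp v).smul h))]
  rfl

theorem act_mul (a b : Cg) (v : V) : act (a * b) v = act a (act b v) := by
  show _ = act a (kap (res ((b : Co0) • secL v : leechLattice)))
  rw [act_kap a ((secL_supp v).smul b), ← mul_smul]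
  rfl

theorem act_one (v : V) : act 1 v = v := by
  rw [act, OneMemClass.coe_one, one_smul, kap_secL]

theorem qf_act (h : Cg) (v : V) : qf (act h v) = qf v := by
  conv_rhs => rw [← kap_secL v]
  rw [act, qf_kap (res_mem ((secL_supp v).smul h)), qf_kap (res_mem (secL_supp v)), ip_res ((secL_supp v).smul h),
    ip_res (secL_supp v), dot_smul]

/-- The linear map of an element. -/
noncomputable def lin (h : Cg) : V →ₗ[ZMod 2] V :=
  (AddMonoidHom.mk' (act h) (act_add h)).toZModLinearMap 2

theorem lin_apply (h : Cg) (v : V) : lin h v = act h v := rfl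

theorem lin_mul (a b : Cg) : lin (a * b) = (lin a).comp (lin b) := LinearMap.ext (act_mul a b)

theorem lin_one : lin 1 = LinearMap.id := LinearMap.ext act_one

/-- The matrix of an element. -/
noncomputable def matU : Cg →* Matrix.GeneralLinearGroup (Fin 4 ⊕ Fin 4) (ZMod 2) :=
  MonoidHom.toHomUnits (MonoidHom.mk
    ⟨fun h => LinearMap.toMatrix' (lin h), by rw [lin_one, LinearMap.toMatrix'_id]⟩
    fun a b => by
      show LinearMap.toMatrix' (lin (a * b)) = _
      rw [lin_mul, LinearMap.toMatrix'_comp])

theorem matU_mulVec (h : Cg) (v : V) : (matU h : Matrix (Fin 4 ⊕ Fin 4) (Fin 4 ⊕ Fin 4) (ZMod 2)).mulVec v = act h v :=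
  LinearMap.toMatrix'_mulVec (lin h) v

theorem matU_mem (h : Cg) : matU h ∈ isometryGroup (ZMod 2) (quadFormPlus 4 (ZMod 2)) := fun u _ => by
  show quadFormPlus 4 (ZMod 2) ((matU h : Matrix (Fin 4 ⊕ Fin 4) (Fin 4 ⊕ Fin 4) (ZMod 2)).mulVec u) = _
  rw [matU_mulVec]
  exact qf_act h u

/-- The representation modulo two. -/
noncomputable def rho : Cg →* isometryGroup (ZMod 2) (quadFormPlus 4 (ZMod 2)) := matU.codRestrict _ matU_mem

theorem rho_eq_iff {a b : Cg} : rho a = rho b ↔ ∀ v, act a v = act b v := by
  constructor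
  · intro h v
    rw [← matU_mulVec, ← matU_mulVec, show matU a = matU b from congrArg Subtype.val h]
  · intro h
    refine Subtype.ext (Units.ext ?_)
    exact congrArg LinearMap.toMatrix' (LinearMap.ext h : lin a = lin b)

theorem rho_eq_one {a : Cg} : rho a = 1 ↔ ∀ v, act a v = v := by
  rw [← map_one rho, rho_eq_iff]
  simp only [act_one]

end Cfsg.Lib.Leech.Co1Inv
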