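import Mathlib

/-!
The eight-dimensional sublattice supported on an octad, modulo two.
-/

set_option autoImplicit false

namespace Cfsg.Lib.Leech.Co1Inv

open Finset

/-- Vectors on the eight points. -/
abbrev W := Fin 8 → ℤ

/-- Coordinates modulo two. -/
abbrev V := Fin 4 ⊕ Fin 4 → ZMod 2

/-- The coordinates of a vector of the lattice supported on the octad. -/
structure InM (y : W) : Prop where
  four : ∀ k, y k % 4 = y 0 % 4
  two : y 0 % 2 = 0
  eight : (∑ k, y k) % 8 = 0

instance (y : W) : Decidable (InM y) :=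
  decidable_of_iff ((∀ k, y k % 4 = y 0 % 4) ∧ y 0 % 2 = 0 ∧ (∑ k, y k) % 8 = 0)
    ⟨fun h => ⟨h.1, h.2.1, h.2.2⟩, fun h => ⟨h.four, h.two, h.eight⟩⟩

/-- The inner product. -/
def ip (x y : W) : ℤ := ∑ k, x k * y k

/-- The first half of the basis. -/
def basE : Fin 4 → W :=
  ![![8, 0, 0, 0, 0, 0, 0, 0],
    ![0, 0, 0, 0, 4, 4, 4, 4],
    ![0, 0, 4, 4, 4, 0, 0, 4],
    ![0, 4, 0, 4, 4, 4, 0, 0]]

/-- The second half of the basis. -/
def basF : Fin 4 → W :=
  ![![2, 2, 2, 2, 2, 2, 2, -6],
    ![0, 0, 0, 4, 0, 4, 4, 4],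
    ![0, 0, 4, 4, 4, 0, 4, 0],
    ![0, 4, 4, 0, 0, 0, 4, 4]]

/-- The basis. -/
def bas : Fin 4 ⊕ Fin 4 → W := Sum.elim basE basF

/-- The dual basis. -/
def dual : Fin 4 ⊕ Fin 4 → W := Sum.elim basF basE

/-- The coordinates modulo two. -/
def kap (y : W) : V := fun s => ((ip y (dual s) / 16 : ℤ) : ZMod 2)

/-- A representative. -/
def sec (v : V) : W := fun k => ∑ s, ((v s).val : ℤ) * bas s k

/-- The form modulo two. -/
def qf (v : V) : ZMod 2 := ∑ i, v (.inl i) * v (.inr i)

/-- Bits to coordinates. -/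
def ofCode (n : ℕ) : V := fun s => if n.testBit (Sum.elim (fun i => i.val) (fun i => 4 + i.val) s) then 1 else 0

/-- A three-cycle of neighbours. -/
def cyc (a : Fin 6) : Equiv.Perm (Fin 8) :=
  Equiv.swap ⟨a.val, by omega⟩ ⟨a.val + 1, by omega⟩ * Equiv.swap ⟨a.val + 1, by omega⟩ ⟨a.val + 2, by omega⟩

/-- The coordinates moved by a permutation. -/
def permW (p : Equiv.Perm (Fin 8)) (y : W) : W := fun k => y (p.symm k)

/-- The first two signs changed. -/
def flipW (y : W) : W := fun k => if k.val < 2 then -y k else y k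

/-- The tetrad map. -/
def tetW (y : W) : W := fun k =>
  if k.val < 4 then -(y k - (y 0 + y 1 + y 2 + y 3) / 2) else y k - (y 4 + y 5 + y 6 + y 7) / 2

/-- The seven monomial letters. -/
def genMono (i : ℕ) : W → W := if h : i < 6 then permW (cyc ⟨i, h⟩) else flipW

/-- The fourteen letters. -/
def gen (i : ℕ) : W → W := if i < 7 then genMono i else fun y => tetW (genMono (i - 7) (tetW y))

/-- Parent, letter, child. -/
def steps : List (ℕ × ℕ × ℕ) := [
  (1, 9, 185), (1, 10, 51), (185, 0, 245), (185, 2, 155), (185, 3, 255), (185, 6, 48), (185, 10, 205), (51, 1, 125),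
  (51, 3, 87), (51, 4, 117), (51, 6, 186), (245, 2, 93), (245, 3, 179), (245, 10, 129), (245, 13, 246), (155, 0, 215),
  (155, 1, 95), (155, 6, 18), (155, 13, 16), (255, 4, 115), (255, 6, 118), (48, 1, 126), (48, 9, 2), (205, 1, 9),
  (205, 4, 7), (205, 5, 65), (125, 2, 213), (125, 3, 59), (87, 4, 157), (87, 5, 219), (87, 6, 222), (87, 13, 220),
  (117, 4, 249), (117, 6, 252), (186, 10, 206), (93, 0, 153), (93, 9, 111), (179, 4, 63), (179, 9, 11), (179, 13, 176),
  (129, 1, 207), (129, 4, 75), (129, 5, 13), (129, 6, 128), (129, 13, 130), (246, 3, 146), (18, 9, 170), (18, 10, 32),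
  (115, 5, 55), (115, 6, 250), (118, 1, 56), (126, 3, 26), (126, 10, 10), (9, 1, 131), (9, 4, 195), (9, 5, 133),
  (9, 6, 8), (7, 2, 175), (65, 3, 37), (65, 5, 5), (213, 9, 231), (59, 4, 183), (157, 5, 85), (157, 6, 20),
  (157, 13, 22), (219, 5, 159), (219, 6, 82), (219, 13, 80), (222, 9, 102), (222, 10, 236), (220, 0, 144), (220, 1, 24),
  (249, 5, 189), (249, 6, 112), (206, 4, 4), (206, 5, 66), (153, 9, 33), (153, 10, 171), (111, 4, 41), (111, 6, 110),
  (63, 5, 123), (63, 9, 135), (63, 13, 60), (11, 4, 193), (207, 2, 103), (207, 3, 237), (207, 5, 67), (75, 2, 105),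
  (75, 6, 74), (75, 13, 72), (13, 5, 73), (13, 6, 12), (13, 13, 14), (130, 1, 204), (130, 2, 160), (146, 4, 88),
  (146, 5, 30), (170, 0, 230), (55, 6, 190), (250, 1, 180), (26, 4, 208), (26, 5, 150), (26, 9, 40), (10, 4, 192),
  (10, 5, 134), (131, 2, 161), (131, 5, 15), (195, 2, 225), (195, 6, 194), (133, 6, 132), (175, 13, 36), (37, 13, 174),
  (5, 3, 97), (183, 5, 243), (85, 5, 217), (20, 10, 96), (22, 0, 90), (22, 1, 210), (159, 10, 235), (82, 9, 234),
  (80, 0, 28), (80, 1, 148), (80, 3, 52), (66, 5, 6), (33, 2, 3), (41, 4, 165), (123, 13, 120), (105, 6, 104),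
  (72, 3, 44), (73, 3, 45), (14, 1, 64), (190, 1, 240), (208, 10, 164), (225, 6, 224)]

/-- The steps hang together. -/
def stepsOK : List ℕ → List (ℕ × ℕ × ℕ) → Bool
  | known, [] => (List.range 256).all fun n => n == 0 || qf (ofCode n) != 0 || known.contains n
  | known, (p, i, c) :: l =>
    known.contains p && decide (i < 14) && decide (kap (gen i (sec (ofCode p))) = ofCode c) && stepsOK (c :: known) l

theorem steps_ok : stepsOK [1] steps = true := by decide +kernel

/-- The class of the frame. -/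
def v0 : V := ofCode 1

theorem v0_eq : ∀ k : Fin 8, kap (Pi.single k 8) = v0 := by decide +kernel

theorem sec_facts : ∀ v : V, kap (sec v) = v ∧ InM (sec v) ∧
    ((ip (sec v) (sec v) / 32 : ℤ) : ZMod 2) = qf v := by decide +kernel

theorem ofCode_surjective : ∀ v : V, ∃ n : Fin 256, ofCode n = v := by
  intro v
  refine ⟨⟨∑ s, (v s).val * 2 ^ Sum.elim (fun i : Fin 4 => i.val) (fun i : Fin 4 => 4 + i.val) s, ?_⟩, ?_⟩
  · revert v; decide +kernel
  · revert v; decide +kernel

theorem card_singular : (univ.filter fun v : V => v ≠ 0 ∧ qf v = 0).card = 135 := by decide +kernel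

theorem bas_mem : ∀ s, InM (bas s) := by decide +kernel

theorem dual_mem : ∀ s, InM (dual s) := by decide +kernel

/-- The spanning vectors of the lattice. -/
def spanV : List W := (List.finRange 8).map (fun k => Pi.single k 8) ++
  ((List.finRange 8).flatMap fun i => (List.finRange 8).flatMap fun j =>
    if i = j then [] else [Pi.single i 4 + Pi.single j 4, Pi.single i 4 - Pi.single j 4]) ++ [fun _ => 2]

theorem spanV_split : (spanV.all fun g => decide (InM g ∧ InM (fun k => (g k - sec (kap g) k) / 2) ∧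
    ∀ k, (g k - sec (kap g) k) % 2 = 0)) = true := by decide +kernel

theorem InM.even {y : W} (h : InM y) (k : Fin 8) : y k % 2 = 0 := by
  have := h.four k
  have := h.two
  omega

theorem InM.zero : InM (0 : W) := by decide

theorem InM.add {x y : W} (hx : InM x) (hy : InM y) : InM (x + y) := by
  refine ⟨fun k => ?_, ?_, ?_⟩
  · have := hx.four k
    have := hy.four k
    simp only [Pi.add_apply]; omega
  · have := hx.two
    have := hy.two
    simp only [Pi.add_apply]; omega
  · have := hx.eight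
    have := hy.eight
    simp only [Pi.add_apply, sum_add_distrib]; omega

theorem InM.neg {x : W} (hx : InM x) : InM (-x) := by
  refine ⟨fun k => ?_, ?_, ?_⟩
  · have := hx.four k
    simp only [Pi.neg_apply]; omega
  · have := hx.two
    simp only [Pi.neg_apply]; omega
  · have := hx.eight
    simp only [Pi.neg_apply, sum_neg_distrib]; omega

theorem InM.sub {x y : W} (hx : InM x) (hy : InM y) : InM (x - y) := sub_eq_add_neg x y ▸ hx.add hy.neg

theorem InM.smul {x : W} (hx : InM x) (n : ℕ) : InM (n • x) := by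
  induction n with
  | zero => simpa using InM.zero
  | succ n ih => rw [succ_nsmul]; exact ih.add hx

theorem sec_mem (v : V) : InM (sec v) := (sec_facts v).2.1

theorem ip_add (x y z : W) : ip (x + y) z = ip x z + ip y z := by
  simp only [ip, Pi.add_apply, add_mul, sum_add_distrib]

theorem ip_sub (x y z : W) : ip (x - y) z = ip x z - ip y z := by
  simp only [ip, Pi.sub_apply, sub_mul, sum_sub_distrib]

theorem ip_comm (x y : W) : ip x y = ip y x := by simp only [ip, mul_comm]

theorem ip_self_dvd {y : W} (h : InM y) : (32 : ℤ) ∣ ip y y := by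
  have key : ∀ z : W, ∃ t, ∑ k, z k * z k = ∑ k, z k + 2 * t := fun z => by
    refine ⟨∑ k, z k * (z k - 1) / 2, ?_⟩
    rw [mul_sum, ← sum_add_distrib]
    refine sum_congr rfl fun k _ => ?_
    obtain ⟨m, hm⟩ := Int.even_mul_pred_self (z k)
    rw [hm, show m + m = 2 * m by ring, Int.mul_ediv_cancel_left m (by norm_num : (2 : ℤ) ≠ 0)]
    linarith
  have h2 := h.two
  rcases (by omega : y 0 % 4 = 0 ∨ y 0 % 4 = 2) with h0 | h0
  · obtain ⟨t, ht⟩ := key fun k => y k / 4
    have e : ∀ k, y k = 4 * (y k / 4) := fun k => by have := h.four k; omega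
    have e1 : ∑ k, y k = 4 * ∑ k, y k / 4 := by rw [mul_sum]; exact sum_congr rfl fun k _ => e k
    obtain ⟨a, ha⟩ : (2 : ℤ) ∣ ∑ k, y k / 4 := by have := h.eight; omega
    refine ⟨a + t, ?_⟩
    calc ip y y = 16 * ∑ k, (y k / 4) * (y k / 4) := by
          rw [mul_sum]; exact sum_congr rfl fun k _ => by
            conv_lhs => rw [e k]
            ring
      _ = _ := by rw [ht, ha]; ring
  · obtain ⟨t, ht⟩ := key fun k => y k / 4
    have e : ∀ k, y k = 4 * (y k / 4) + 2 := fun k => by have := h.four k; omega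
    refine ⟨1 + (∑ k, y k / 4) + t, ?_⟩
    calc ip y y = ∑ k, (16 * ((y k / 4) * (y k / 4)) + (16 * (y k / 4) + 4)) :=
          sum_congr rfl fun k _ => by
            conv_lhs => rw [e k]
            ring
      _ = _ := by
          rw [sum_add_distrib, sum_add_distrib, ← mul_sum, ← mul_sum, ht]
          simp; ring

theorem ip_dvd {x y : W} (hx : InM x) (hy : InM y) : (16 : ℤ) ∣ ip x y := by
  have h1 := ip_self_dvd (hx.add hy)
  have h2 := ip_self_dvd hx
  have h3 := ip_self_dvd hy
  rw [ip_add, ip_comm x, ip_comm y, ip_add, ip_add, ip_comm y x] at h1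
  omega

theorem kap_add {x : W} (hx : InM x) (y : W) : kap (x + y) = kap x + kap y := by
  funext s
  simp only [kap, Pi.add_apply, ip_add, Int.add_ediv_of_dvd_left (ip_dvd hx (dual_mem s)), Int.cast_add]

theorem kap_twice {w : W} (hw : InM w) : kap (w + w) = 0 := by
  rw [kap_add hw]
  funext s
  exact CharTwo.add_self_eq_zero _

theorem two_of_pairing {u : W} (h : ∀ g ∈ spanV, (32 : ℤ) ∣ ip u g) :
    ∃ w, InM w ∧ u = w + w := by
  have hs : ∀ k (a : ℤ), ip u (Pi.single k a) = u k * a := fun k a => by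
    simp [ip, Pi.single_apply]
  have h8 : ∀ k, u k % 4 = 0 := fun k => by
    have := h (Pi.single k 8) (by simp [spanV])
    rw [hs] at this
    omega
  have hij : ∀ k, u k % 8 = u 0 % 8 := fun k => by
    by_cases hk : k = 0
    · rw [hk]
    have := h (Pi.single k 4 - Pi.single 0 4) (by
      simp only [spanV, List.mem_append, List.mem_flatMap, List.mem_finRange, true_and]
      exact Or.inl (Or.inr ⟨k, 0, by simp [hk]⟩))
    rw [ip_comm, ip_sub, ip_comm, hs, ip_comm, hs] at this
    omega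
  have hsum : (∑ k, u k) % 16 = 0 := by
    have := h (fun _ => 2) (by simp [spanV])
    simp only [ip, ← sum_mul] at this
    omega
  have hu : ∀ k, u k = u k / 2 + u k / 2 := fun k => by have := h8 k; omega
  refine ⟨fun k => u k / 2, ⟨fun k => ?_, ?_, ?_⟩, funext hu⟩
  · have := hij k
    have := h8 k
    show u k / 2 % 4 = u 0 / 2 % 4
    omega
  · have := h8 0
    show u 0 / 2 % 2 = 0
    omega
  · have : ∑ k, u k = (∑ k, u k / 2) + ∑ k, u k / 2 := by
      rw [← sum_add_distrib]; exact sum_congr rfl fun k _ => hu k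
    show (∑ k, u k / 2) % 8 = 0
    omega

theorem ip_even_dual {u : W} (hu : InM u) (h0 : kap u = 0) (s : Fin 4 ⊕ Fin 4) : (32 : ℤ) ∣ ip u (dual s) := by
  obtain ⟨d, hd⟩ := ip_dvd hu (dual_mem s)
  have h := congrFun h0 s
  simp only [kap, hd, Int.mul_ediv_cancel_left _ (by norm_num : (16 : ℤ) ≠ 0), Pi.zero_apply,
    ZMod.intCast_zmod_eq_zero_iff_dvd] at h
  obtain ⟨e, rfl⟩ := h
  exact ⟨e, by rw [hd]; push_cast; ring⟩

theorem ip_sec_even {u : W} (hu : InM u) (h0 : kap u = 0) (v : V) : (32 : ℤ) ∣ ip u (sec v) := by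
  have e : ip u (sec v) = ∑ s, ((v s).val : ℤ) * ip u (bas s) := by
    simp only [ip, sec, mul_sum]
    rw [sum_comm]
    exact sum_congr rfl fun s _ => sum_congr rfl fun k _ => by ring
  rw [e]
  refine dvd_sum fun s _ => Dvd.dvd.mul_left ?_ _
  rcases s with i | i
  · exact ip_even_dual hu h0 (.inr i)
  · exact ip_even_dual hu h0 (.inl i)

theorem exists_half {y : W} (hy : InM y) : ∃ w, InM w ∧ y = sec (kap y) + (w + w) := by
  have hu : InM (y - sec (kap y)) := hy.sub (sec_mem _)
  have h0 : kap (y - sec (kap y)) = 0 := by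
    have h := kap_add hu (sec (kap y))
    rw [sub_add_cancel, (sec_facts _).1] at h
    exact right_eq_add.mp h
  obtain ⟨w, hw, e⟩ := two_of_pairing (u := y - sec (kap y)) fun g hg => by
    have hg' := of_decide_eq_true (List.all_eq_true.mp spanV_split g hg)
    obtain ⟨hgm, hhalf, hev⟩ := hg'
    have eg : g = sec (kap g) + ((fun k => (g k - sec (kap g) k) / 2) + fun k => (g k - sec (kap g) k) / 2) :=
      funext fun k => by have := hev k; simp only [Pi.add_apply]; omega
    rw [ip_comm, eg, ip_add, ip_add, ip_comm, ip_comm _ (y - sec (kap y))]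
    obtain ⟨d, hd⟩ := ip_dvd hu hhalf
    exact dvd_add (ip_sec_even hu h0 _) ⟨d, by rw [hd]; ring⟩
  exact ⟨w, hw, by rw [← e, add_sub_cancel]⟩

theorem qf_kap {y : W} (hy : InM y) : qf (kap y) = ((ip y y / 32 : ℤ) : ZMod 2) := by
  obtain ⟨w, hw, e⟩ := exists_half hy
  set s := sec (kap y) with hs
  obtain ⟨a, ha⟩ := ip_dvd (sec_mem (kap y)) hw
  obtain ⟨b, hb⟩ := ip_self_dvd hw
  obtain ⟨c, hc⟩ := ip_self_dvd (sec_mem (kap y))
  rw [← hs] at ha hc
  have hyy : ip y y = 32 * (c + 2 * a + 4 * b) := by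
    rw [e]
    calc _ = ip s s + 4 * ip s w + 4 * ip w w := by
          simp only [ip, Pi.add_apply, mul_sum, ← sum_add_distrib]
          exact sum_congr rfl fun k _ => by ring
      _ = _ := by rw [ha, hb, hc]; ring
  rw [← (sec_facts (kap y)).2.2, ← hs, hc, hyy, Int.mul_ediv_cancel_left _ (by norm_num : (32 : ℤ) ≠ 0),
    Int.mul_ediv_cancel_left _ (by norm_num : (32 : ℤ) ≠ 0)]
  push_cast
  have h2 : (2 : ZMod 2) = 0 := rfl
  have h4 : (4 : ZMod 2) = 0 := rfl
  rw [h2, h4]
  ring

theorem kap_eq_iff {x y : W} (hx : InM x) (hy : InM y) : kap x = kap y ↔ ∃ w, InM w ∧ x = y + (w + w) := by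
  constructor
  · intro h
    obtain ⟨a, ha, ea⟩ := exists_half hx
    obtain ⟨b, hb, eb⟩ := exists_half hy
    refine ⟨a - b, ha.sub hb, ?_⟩
    rw [h] at ea
    generalize sec (kap y) = s at ea eb
    subst ea eb
    abel
  · rintro ⟨w, hw, rfl⟩
    rw [kap_add hy, kap_twice hw, add_zero]

/-- Short vectors of one class differ at most by sign. -/
theorem short_class {x y : W} (hx : InM x) (hy : InM y) (nx : ip x x = 32) (ny : ip y y = 32)
    (h : kap x = kap y) : x = y ∨ x = -y := by
  obtain ⟨w, hw, e⟩ := (kap_eq_iff hx hy).mp h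
  have nn : ∀ z : W, 0 ≤ ip z z := fun z => sum_nonneg fun k _ => mul_self_nonneg _
  have z0 : ∀ z : W, ip z z = 0 → z = 0 := fun z hz => funext fun k =>
    mul_self_eq_zero.mp ((sum_eq_zero_iff_of_nonneg fun k _ => mul_self_nonneg (z k)).mp hz k (mem_univ k))
  have h1 : ip (w + w) (w + w) = 4 * ip w w := by
    simp only [ip, Pi.add_apply, mul_sum]
    exact sum_congr rfl fun k _ => by ring
  have h2 : ip (x - y) (x - y) + ip (x + y) (x + y) = 128 := by
    calc _ = 2 * ip x x + 2 * ip y y := by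
          simp only [ip, Pi.add_apply, Pi.sub_apply, mul_sum, ← sum_add_distrib]
          exact sum_congr rfl fun k _ => by ring
      _ = 128 := by rw [nx, ny]; norm_num
  have h3 : x - y = w + w := by rw [e, add_sub_cancel_left]
  rw [h3, h1] at h2
  obtain ⟨d, hd⟩ := ip_self_dvd hw
  have := nn (x + y)
  have := nn w
  rcases (by omega : ip w w = 0 ∨ ip (x + y) (x + y) = 0) with h4 | h4
  · left
    rw [e, z0 w h4]; simp
  · right
    exact eq_neg_of_add_eq_zero_left (z0 _ h4)

end Cfsg.Lib.Leech.Co1Inv
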