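import Cfsg.Agent.Leech.Co1Inv.Lattice
import Cfsg.Agent.Golay.OctadStab

/-!
The monomial elements of the centraliser, its orbit on the singular classes, and its perfect image.
-/

set_option autoImplicit false

namespace Cfsg.Lib.Leech.Co1Inv

open Cfsg Cfsg.Lib.Golay Finset MulAction
open scoped Pointwise

theorem mem_smul_iff (σ : Equiv.Perm GolayPt) (s : Finset GolayPt) (i : GolayPt) :
    i ∈ σ • s ↔ σ.symm i ∈ s := by
  rw [← Equiv.Perm.inv_def, ← Equiv.Perm.smul_def, inv_smul_mem_iff]

theorem mono_mul {σ τ : Equiv.Perm GolayPt} {c d : Finset GolayPt} (hσ : σ ∈ M24) (hc : c ∈ code)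
    (hτ : τ ∈ M24) (hd : d ∈ code) :
    mono hσ hc * mono hτ hd =
      mono (mul_mem hσ hτ) (symmDiff_mem_supports hc (smul_mem_code hσ hd)) := by
  refine co0_ext fun v => Subtype.ext (funext fun i => ?_)
  rw [mul_smul, mono_apply, mono_apply, mono_apply]
  simp only [signedPerm, mem_symmDiff, mem_smul_iff, Equiv.Perm.mul_def, Equiv.symm_trans_apply]
  by_cases h1 : i ∈ c <;> by_cases h2 : σ.symm i ∈ d <;> simp [h1, h2]

theorem mono_congr {σ τ : Equiv.Perm GolayPt} {c d : Finset GolayPt} (hσ : σ ∈ M24) (hc : c ∈ code)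
    (hτ : τ ∈ M24) (hd : d ∈ code) (h1 : σ = τ) (h2 : c = d) : mono hσ hc = mono hτ hd := by
  subst h1 h2; rfl

theorem mono_mem_Cg {σ : Equiv.Perm GolayPt} {c : Finset GolayPt} (hσ : σ ∈ M24) (hc : c ∈ code)
    (hO : σ • oct = oct) : mono hσ hc ∈ Cg := by
  rw [Subgroup.mem_centralizer_singleton_iff, g0, mono_mul, mono_mul]
  exact mono_congr _ _ _ _ (by rw [mul_one, one_mul]) (by rw [hO, one_smul, symmDiff_comm])

/-- A monomial element of the centraliser. -/
noncomputable def monoC (σ : setStab oct) {c : Finset GolayPt} (hc : c ∈ code) : Cg :=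
  ⟨mono σ.2.1 hc, mono_mem_Cg σ.2.1 hc σ.2.2⟩

theorem monoC_mul (σ τ : setStab oct) {c d : Finset GolayPt} (hc : c ∈ code) (hd : d ∈ code) :
    monoC σ hc * monoC τ hd = monoC (σ * τ) (symmDiff_mem_supports hc (smul_mem_code σ.2.1 hd)) :=
  Subtype.ext (mono_mul _ _ _ _)

theorem monoC_congr {σ τ : setStab oct} {c d : Finset GolayPt} (hc : c ∈ code) (hd : d ∈ code)
    (h1 : σ = τ) (h2 : c = d) : monoC σ hc = monoC τ hd := by subst h1 h2; rfl

theorem monoC_one : monoC 1 empty_mem_code = 1 := Subtype.ext flip_empty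

/-- The permutations alone. -/
noncomputable def permC : setStab oct →* Cg :=
  MonoidHom.mk' (fun σ => monoC σ empty_mem_code) fun σ τ => by
    rw [monoC_mul]
    exact monoC_congr _ _ rfl (by simp)

theorem monoC_split (σ : setStab oct) {c : Finset GolayPt} (hc : c ∈ code) :
    monoC σ hc = monoC 1 hc * permC σ := by
  rw [permC, MonoidHom.mk'_apply, monoC_mul]
  exact monoC_congr _ _ (one_mul σ).symm (by simp [← bot_eq_empty])

theorem res_monoC (σ : setStab oct) {c : Finset GolayPt} (hc : c ∈ code) (x : leechLattice) (k : Fin 8) :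
    res (((monoC σ hc : Cg) : Co0) • x : leechLattice) k =
      if octO k ∈ c then -(x : GolayPt → ℤ) ((σ : Equiv.Perm GolayPt).symm (octO k))
      else (x : GolayPt → ℤ) ((σ : Equiv.Perm GolayPt).symm (octO k)) := rfl

/-- The vector with two fours. -/
def rootW (i j : Fin 8) : W := Pi.single i 4 + Pi.single j 4

theorem rootW_facts : ∀ i j : Fin 8, i ≠ j → InM (rootW i j) ∧ ip (rootW i j) (rootW i j) = 32 := by
  decide +kernel

theorem kap_neg {y : W} (hy : InM y) : kap (-y) = kap y := by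
  have h := kap_add hy (-y)
  rw [add_neg_cancel, show kap (0 : W) = 0 from funext fun s => by simp [kap, ip]] at h
  funext s
  exact (by decide : ∀ a b : ZMod 2, 0 = a + b → b = a) _ _ (congrFun h s)

theorem rho_monoC_eq_one (σ : setStab oct) {c : Finset GolayPt} (hc : c ∈ code) :
    rho (monoC σ hc) = 1 ↔ (∀ p ∈ oct, (σ : Equiv.Perm GolayPt) p = p) ∧ ∀ p ∈ oct, ∀ q ∈ oct, (p ∈ c ↔ q ∈ c) := by
  constructor
  · intro h
    rw [rho_eq_one] at h
    have key : ∀ (i j : Fin 8) (hij : i ≠ j),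
        ((res (((monoC σ hc : Cg) : Co0) • upL _ (rootW_facts i j hij).1 : leechLattice)) = rootW i j ∨
          (res (((monoC σ hc : Cg) : Co0) • upL _ (rootW_facts i j hij).1 : leechLattice)) = -rootW i j) := by
      intro i j hij
      obtain ⟨hm, hn⟩ := rootW_facts i j hij
      have hs := upL_supp _ hm
      refine short_class (res_mem (hs.smul _)) hm ?_ hn ?_
      · rw [ip_res (hs.smul _), dot_smul, ← ip_res hs, show res (upL _ hm : GolayPt → ℤ) = _ from res_up _, hn]
      · have := h (kap (res (upL _ hm)))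
        rw [act_kap _ hs] at this
        rw [this, show res (upL _ hm : GolayPt → ℤ) = _ from res_up _]
    have val : ∀ i j k : Fin 8, i ≠ j → octO k = (σ : Equiv.Perm GolayPt) (octO i) →
        (rootW i j k = (if octO k ∈ c then -4 else 4) ∨ -rootW i j k = (if octO k ∈ c then -4 else 4)) := by
      intro i j k hij hk
      have e : res (((monoC σ hc : Cg) : Co0) • upL _ (rootW_facts i j hij).1 : leechLattice) k =
          if octO k ∈ c then -4 else 4 := by
        rw [res_monoC, hk, Equiv.symm_apply_apply]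
        show (if _ then -up (rootW i j) (octO i) else up (rootW i j) (octO i)) = _
        rw [up_apply]
        simp [rootW, hij]
      rcases key i j hij with h' | h' <;> rw [h'] at e
      · exact Or.inl e
      · exact Or.inr (by simpa using e)
    have hfix : ∀ i, (σ : Equiv.Perm GolayPt) (octO i) = octO i := by
      intro i
      obtain ⟨k, hk⟩ := exists_octO ((mem_iff_of_smul_eq σ.2.2 (octO i)).mpr (octO_mem i))
      rw [← hk]
      congr 1
      by_contra hki
      obtain ⟨j, hji, hjk⟩ := (by decide : ∀ i k : Fin 8, ∃ j, j ≠ i ∧ j ≠ k) i k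
      have := val i j k hji.symm hk
      simp [rootW, hki, hjk.symm] at this
      split at this <;> omega
    refine ⟨fun p hp => ?_, fun p hp q hq => ?_⟩
    · obtain ⟨i, rfl⟩ := exists_octO hp
      exact hfix i
    · obtain ⟨i, rfl⟩ := exists_octO hp
      obtain ⟨j, rfl⟩ := exists_octO hq
      by_cases hij : i = j
      · rw [hij]
      have eval : ∀ k, res (((monoC σ hc : Cg) : Co0) • upL _ (rootW_facts i j hij).1 : leechLattice) k =
          if octO k ∈ c then -rootW i j k else rootW i j k := fun k => by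
        rw [res_monoC, show (σ : Equiv.Perm GolayPt).symm (octO k) = octO k from
          (Equiv.symm_apply_eq _).mpr (hfix k).symm]
        show (if _ then -up (rootW i j) (octO k) else up (rootW i j) (octO k)) = _
        rw [up_apply]
      rcases key i j hij with h' | h' <;>
      · have e1 := eval i
        have e2 := eval j
        rw [h'] at e1 e2
        simp only [Pi.neg_apply, rootW, Pi.add_apply, Pi.single_apply, hij, Ne.symm hij, if_true, if_false] at e1 e2
        by_cases a : octO i ∈ c <;> by_cases b : octO j ∈ c <;> simp [a, b] at e1 e2 ⊢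
  · rintro ⟨hfix, hsame⟩
    rw [rho_eq_one]
    intro v
    have hy : res (((monoC σ hc : Cg) : Co0) • secL v : leechLattice) = sec v ∨
        res (((monoC σ hc : Cg) : Co0) • secL v : leechLattice) = -sec v := by
      have e : ∀ k, res (((monoC σ hc : Cg) : Co0) • secL v : leechLattice) k =
          if octO k ∈ c then -sec v k else sec v k := fun k => by
        rw [res_monoC, show (σ : Equiv.Perm GolayPt).symm (octO k) = octO k from
          (Equiv.symm_apply_eq _).mpr (hfix _ (octO_mem k)).symm]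
        show (if _ then -up (sec v) (octO k) else up (sec v) (octO k)) = _
        rw [up_apply]
      by_cases h0 : octO 0 ∈ c
      · exact Or.inr (funext fun k => by rw [e, if_pos ((hsame _ (octO_mem k) _ (octO_mem 0)).mpr h0)]; rfl)
      · exact Or.inl (funext fun k => by
          rw [e, if_neg fun hk => h0 ((hsame _ (octO_mem k) _ (octO_mem 0)).mp hk)])
    rw [act]
    rcases hy with e | e <;> rw [e]
    · exact (sec_facts v).1
    · rw [kap_neg (sec_mem v), (sec_facts v).1]

theorem e8_supp (k : Fin 8) : Supp (e8 (octO k)) := fun p hp =>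
  Pi.single_eq_of_ne (fun e => hp (by rw [e]; exact octO_mem k)) 8

theorem res_e8 (k : Fin 8) : res (e8 (octO k) : GolayPt → ℤ) = Pi.single k 8 := by
  funext j
  simp only [res, e8, Pi.single_apply, oct_facts.1.eq_iff]

theorem smul_oct_of_mono {σ : Equiv.Perm GolayPt} {c : Finset GolayPt} (hσ : σ ∈ M24) (hc : c ∈ code)
    (h : mono hσ hc ∈ Cg) : σ • oct = oct := by
  refine smul_eq_of_mem_imp fun p hp => ?_
  obtain ⟨k, rfl⟩ := exists_octO hp
  by_contra hout
  have := (e8_supp k).smul ⟨_, h⟩ (σ (octO k)) hout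
  rw [monoFun_e8] at this
  split at this <;> simp [e8] at this

theorem monomial_of_fix (h : Cg) (hv : act h v0 = v0) :
    ∃ (σ : setStab oct) (c : Finset GolayPt) (hc : c ∈ code), h = monoC σ hc := by
  set x := e8 (octO 0) with hx
  have hxs : Supp x := e8_supp 0
  have hk : kap (res ((h : Co0) • x : leechLattice)) = kap (res x) := by
    rw [← act_kap h hxs, hx, res_e8, v0_eq, hv]
  obtain ⟨w, hw, e⟩ := (kap_eq_iff (res_mem (hxs.smul h)) (res_mem hxs)).mp hk
  have e' : (h : Co0) • x = x + (upL w hw + upL w hw) :=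
    res_injective (hxs.smul h) (hxs.add ((upL_supp w hw).add (upL_supp w hw)))
      (by rw [e, res_add, res_add, show res (upL w hw : GolayPt → ℤ) = w from res_up w])
  have hcong : Cong leechLattice (e8 none : GolayPt → ℤ) (((h : Co0) • x : leechLattice) : GolayPt → ℤ) := by
    refine ⟨(fun k => 4 * ((if k = none then 1 else 0) - if k = octO 0 then 1 else 0)) - up w, sub_mem
      (mem_lattice.mpr ⟨0, ∅, fun k => (if k = none then 1 else 0) - if k = octO 0 then 1 else 0, empty_mem_code,
        fun k => by simp [indZ], by rw [sum_sub_distrib, sum_ite_eq', sum_ite_eq']; simp⟩) (up_mem hw), ?_⟩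
    rw [e']
    funext k
    simp only [hx, e8, Pi.sub_apply, AddSubgroup.coe_add, Pi.add_apply, Pi.smul_apply, Pi.single_apply, upL,
      nsmul_eq_mul, Nat.cast_ofNat]
    split <;> split <;> ring
  have hstd := class_e8 ((h : Co0) • x).2 (((h : Co0).2.2 x).trans (sqNorm_e8 _)) hcong
  obtain ⟨r, hr, hrx⟩ := frame_transitive (octO 0) false
  obtain ⟨r', hr', hrx'⟩ : ∃ r' : Co0, FixesFrame r' ∧ r' • e8 none = (h : Co0) • x := by
    obtain ⟨j, hj | hj⟩ := stdCross_eq_e8.mp hstd
    · obtain ⟨r', hr', e⟩ := frame_transitive j false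
      exact ⟨r', hr', by rw [e]; exact Subtype.ext hj.symm⟩
    · obtain ⟨r', hr', e⟩ := frame_transitive j true
      exact ⟨r', hr', by rw [e]; exact Subtype.ext hj.symm⟩
  have hfix : (r'⁻¹ * ((h : Co0) * r)) • e8 none = e8 none := by
    rw [mul_smul, mul_smul, hrx, inv_smul_eq_iff, hrx']
    rfl
  have hM : (h : Co0) ∈ monoGroup := by
    have := mul_mem (mul_mem (mem_monoGroup_of_fixes hr') (mem_monoGroup_of_fixes (stab_fixesFrame hfix)))
      (inv_mem (mem_monoGroup_of_fixes hr))
    rwa [show r' * (r'⁻¹ * ((h : Co0) * r)) * r⁻¹ = (h : Co0) by group] at this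
  rw [← SetLike.mem_coe, coe_monoGroup] at hM
  obtain ⟨σ, c, hσ, hc, hm⟩ := frame_is_monomial hM
  have hO : σ • oct = oct := smul_oct_of_mono hσ hc (by rw [← hm]; exact h.2)
  exact ⟨⟨σ, hσ, hO⟩, c, hc, Subtype.ext hm⟩

theorem monoC_fix (σ : setStab oct) {c : Finset GolayPt} (hc : c ∈ code) : act (monoC σ hc) v0 = v0 := by
  rw [← v0_eq 0, ← res_e8, act_kap _ (e8_supp 0)]
  obtain ⟨k, hk⟩ := exists_octO ((mem_iff_of_smul_eq σ.2.2 (octO 0)).mpr (octO_mem 0))
  show kap (res ((mono σ.2.1 hc • e8 (octO 0) : leechLattice) : GolayPt → ℤ)) = _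
  rw [monoFun_e8, ← hk]
  split
  · rw [AddSubgroup.coe_neg, show res (-(e8 (octO k) : GolayPt → ℤ)) = -res (e8 (octO k) : GolayPt → ℤ) from rfl,
      kap_neg (res_mem (e8_supp k)), res_e8, res_e8, v0_eq, v0_eq]
  · rw [res_e8, res_e8, v0_eq, v0_eq]

/-- An element realises a map on the coordinates. -/
def Lifts (T : W → W) (h : Cg) : Prop := ∀ x : leechLattice, Supp x → res ((h : Co0) • x : leechLattice) = T (res x)

theorem Lifts.mul {T T' : W → W} {a b : Cg} (ha : Lifts T a) (hb : Lifts T' b) :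
    Lifts (fun y => T (T' y)) (a * b) := fun x hx => by
  rw [Subgroup.coe_mul, mul_smul, ha _ (hx.smul b), hb x hx]

theorem tetAut_mem : tetAut ∈ Cg := by
  rw [Subgroup.mem_centralizer_singleton_iff]
  refine co0_ext fun v => Subtype.ext (funext fun i => ?_)
  rw [mul_smul, mul_smul, tetAut_apply, g0_apply, tetAut_apply]
  have key : ∀ p, tetIdx p = tetIdx i → (p ∈ oct ↔ i ∈ oct) := fun p e => by
    rw [oct_facts.2.2.2, oct_facts.2.2.2, e]
  have hs : tsum6 ((g0 • v : leechLattice) : GolayPt → ℤ) (tetIdx i) =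
      if i ∈ oct then -tsum6 (v : GolayPt → ℤ) (tetIdx i) else tsum6 (v : GolayPt → ℤ) (tetIdx i) := by
    simp only [tsum6]
    split <;> rename_i hi
    · rw [← sum_neg_distrib]
      exact sum_congr rfl fun p hp => by rw [g0_apply, if_pos ((key p (mem_tetSet.mp hp)).mpr hi)]
    · exact sum_congr rfl fun p hp => by rw [g0_apply, if_neg fun hp' => hi ((key p (mem_tetSet.mp hp)).mp hp')]
  obtain ⟨a, ha⟩ := tsum6_even v.2 (tetIdx i)
  simp only [tetMap, hs, g0_apply, ha]
  by_cases hi : i ∈ oct <;> simp only [hi, if_true, if_false] <;> split <;> omega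

/-- The tetrad element. -/
noncomputable def tetC : Cg := ⟨tetAut, tetAut_mem⟩

theorem tetC_inv : tetC⁻¹ = tetC := Subtype.ext tetAut_inv

theorem tet_sets : tetSet 0 = {octO 0, octO 1, octO 2, octO 3} ∧ tetSet 1 = {octO 4, octO 5, octO 6, octO 7} ∧
    [octO 0, octO 1, octO 2, octO 3].Nodup ∧ [octO 4, octO 5, octO 6, octO 7].Nodup := by decide +kernel

theorem sum_four (f : GolayPt → ℤ) {a b c d : GolayPt} (h : [a, b, c, d].Nodup) :
    ∑ i ∈ ({a, b, c, d} : Finset GolayPt), f i = f a + f b + f c + f d := by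
  simp only [List.nodup_cons, List.mem_cons, List.not_mem_nil, or_false, not_or] at h
  rw [sum_insert (by simp [h.1]), sum_insert (by simp [h.2.1]), sum_insert (by simp [h.2.2.1]), sum_singleton]
  ring

theorem lifts_tet : Lifts tetW tetC := by
  intro x _
  funext k
  show tetMap (x : GolayPt → ℤ) (octO k) = _
  rw [tetMap, oct_facts.2.2.1 k]
  obtain ⟨h0, h1, n0, n1⟩ := tet_sets
  by_cases hk : k.val < 4
  · simp only [hk, if_true, tetW]
    rw [tsum6, h0, sum_four _ n0]
    rfl
  · simp only [hk, if_false, tetW, show ((1 : Fin 6) = 0) = False from eq_false (by decide)]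
    rw [tsum6, h1, sum_four _ n1]
    rfl

/-- The octad as eight points. -/
noncomputable def octEquiv : Fin 8 ≃ ↥oct :=
  Equiv.ofBijective (fun k => ⟨octO k, octO_mem k⟩)
    ⟨fun _ _ e => oct_facts.1 (congrArg Subtype.val e),
      fun p => (exists_octO p.2).imp fun _ hk => Subtype.ext hk⟩

theorem exists_lift_perm {p : Equiv.Perm (Fin 8)} (hp : Equiv.Perm.sign p = 1) :
    ∃ σ : setStab oct, ∀ k, (σ : Equiv.Perm GolayPt) (octO k) = octO (p k) := by
  have he : octEquiv.permCongr p ∈ (alternatingGroup ↥oct : Set (Equiv.Perm ↥oct)) := by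
    rw [SetLike.mem_coe, Equiv.Perm.mem_alternatingGroup, Equiv.Perm.sign_permCongr, hp]
  rw [← s1553 oct oct_octad] at he
  obtain ⟨g, hg, hgo, e⟩ := he
  refine ⟨⟨g, hg, smul_eq_of_mem_imp fun x hx => (hgo x).mpr hx⟩, fun k => ?_⟩
  have := congrArg (fun q : Equiv.Perm ↥oct => ((q (octEquiv k) : ↥oct) : GolayPt)) e
  simp only [Equiv.permCongr_apply, Equiv.symm_apply_apply] at this
  exact this

theorem lifts_perm {p : Equiv.Perm (Fin 8)} {σ : setStab oct}
    (h : ∀ k, (σ : Equiv.Perm GolayPt) (octO k) = octO (p k)) : Lifts (permW p) (permC σ) := by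
  intro x _
  funext k
  show res (((monoC σ empty_mem_code : Cg) : Co0) • x : leechLattice) k = _
  rw [res_monoC, if_neg (notMem_empty _), show (σ : Equiv.Perm GolayPt).symm (octO k) = octO (p.symm k) from
    (Equiv.symm_apply_eq _).mpr (by rw [h, Equiv.apply_symm_apply])]
  rfl

theorem trace_witness : (codeMasks.any fun m => m &&& 5279 == 3) = true ∧
    ∀ k : Fin 8, Nat.testBit 5279 (pidx (octO k)) = true ∧ (Nat.testBit 3 (pidx (octO k)) = decide (k.val < 2)) := by
  decide +kernel

theorem exists_pair_word : ∃ c ∈ code, ∀ k, (octO k ∈ c ↔ k.val < 2) := by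
  obtain ⟨⟨m, hm, he⟩, hk⟩ := And.imp_left List.any_eq_true.mp trace_witness
  refine ⟨pts m, ?_, fun k => ?_⟩
  · rw [mem_supports_iff, mk_pts (lt_of_inCode (mem_codeMasks.mp hm))]
    exact mem_codeMasks.mp hm
  · rw [mem_pts]
    have h := congrArg (fun n => Nat.testBit n (pidx (octO k))) (beq_iff_eq.mp he)
    simp only [Nat.testBit_and, (hk k).1, Bool.and_true, (hk k).2] at h
    rw [h, decide_eq_true_iff]

/-- The subgroup to be shown to be everything. -/
noncomputable def NC : Subgroup Cg := commutator Cg ⊔ rho.ker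

instance NC_normal : NC.Normal := Subgroup.sup_normal _ _

theorem ker_le_NC : rho.ker ≤ NC := le_sup_right

theorem comm_mem_NC (a b : Cg) : a * b * a⁻¹ * b⁻¹ ∈ NC :=
  Subgroup.mem_sup_left (Subgroup.commutator_mem_commutator (Subgroup.mem_top a) (Subgroup.mem_top b))

theorem permC_mem (σ : setStab oct) : permC σ ∈ NC := by
  set R := restrictHom oct (setStab oct) fun _ h => h.2 with hR
  have hrange : R.range = alternatingGroup ↥oct := by
    refine SetLike.coe_injective ?_
    rw [← s1553 oct oct_octad]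
    ext e
    constructor
    · rintro ⟨g, rfl⟩
      exact ⟨g, g.2.1, mem_iff_of_smul_eq g.2.2, rfl⟩
    · rintro ⟨g, hg, hgo, rfl⟩
      exact ⟨⟨g, hg, smul_eq_of_mem_imp fun x hx => (hgo x).mpr hx⟩, rfl⟩
  have hR' : (commutator (setStab oct)).map R = R.range := by
    rw [commutator_def, Subgroup.map_commutator, ← MonoidHom.range_eq_map, hrange]
    exact commutator_alternatingGroup_eq_self (by
      rw [Nat.card_eq_fintype_card, Fintype.card_coe, oct_octad.2]; norm_num)
  obtain ⟨u, hu, e⟩ : R σ ∈ (commutator (setStab oct)).map R := hR' ▸ ⟨σ, rfl⟩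
  have h1 : permC u ∈ NC := by
    have := Subgroup.mem_map_of_mem permC hu
    rw [commutator_def, Subgroup.map_commutator] at this
    exact Subgroup.mem_sup_left (Subgroup.commutator_mono le_top le_top this)
  have h2 : permC (u⁻¹ * σ) ∈ NC := by
    refine ker_le_NC ((rho_monoC_eq_one _ empty_mem_code).mpr ⟨fun p hp => ?_, fun p _ q _ => by simp⟩)
    have := congrArg (fun e : Equiv.Perm ↥oct => ((e ⟨p, hp⟩ : ↥oct) : GolayPt))
      (show R (u⁻¹ * σ) = 1 by rw [map_mul, map_inv, e, inv_mul_cancel])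
    exact this
  have := mul_mem h1 h2
  rwa [← map_mul, mul_inv_cancel_left] at this

theorem flip_mul' {c d : Finset GolayPt} (hc : c ∈ code) (hd : d ∈ code) :
    monoC 1 hc * monoC 1 hd = monoC 1 (symmDiff_mem_supports hc hd) := by
  rw [monoC_mul]
  exact monoC_congr _ _ (one_mul 1) (by rw [OneMemClass.coe_one, one_smul])

theorem permC_conj (σ : setStab oct) {c : Finset GolayPt} (hc : c ∈ code) :
    permC σ * monoC 1 hc * (permC σ)⁻¹ = monoC 1 (smul_mem_code σ.2.1 hc) := by
  rw [mul_inv_eq_iff_eq_mul, permC, MonoidHom.mk'_apply, monoC_mul, monoC_mul]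
  exact monoC_congr _ _ (by rw [mul_one, one_mul]) (by simp [← bot_eq_empty])

theorem flip_trace {c d : Finset GolayPt} (hc : c ∈ code) (hd : d ∈ code)
    (h : ∀ k, octO k ∈ c ↔ octO k ∈ d) (hN : monoC 1 hc ∈ NC) : monoC 1 hd ∈ NC := by
  have h2 : monoC 1 (symmDiff_mem_supports hc hd) ∈ NC := by
    refine ker_le_NC ((rho_monoC_eq_one _ _).mpr ⟨fun p _ => rfl, fun p hp q hq => ?_⟩)
    obtain ⟨i, rfl⟩ := exists_octO hp
    obtain ⟨j, rfl⟩ := exists_octO hq
    simp only [mem_symmDiff, h]
    tauto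
  have := mul_mem hN h2
  rw [flip_mul'] at this
  rwa [monoC_congr _ hd rfl (symmDiff_symmDiff_cancel_left c d)] at this

theorem pair_perms : ∀ i j : Fin 8, i ≠ j → ∃ a b c d : Fin 8, a ≠ b ∧ c ≠ d ∧
    (Equiv.swap a b * Equiv.swap c d) 0 = i ∧ (Equiv.swap a b * Equiv.swap c d) 2 = j := by decide +kernel

theorem pair_flip (i j : Fin 8) (hij : i ≠ j) :
    ∃ (c : Finset GolayPt) (hc : c ∈ code), (∀ k, octO k ∈ c ↔ (k = i ∨ k = j)) ∧ monoC 1 hc ∈ NC := by
  obtain ⟨c, hc, hck⟩ := exists_pair_word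
  obtain ⟨σ, hσ⟩ := exists_lift_perm (p := cyc 0) (by decide +kernel)
  set c' := symmDiff c ((σ : Equiv.Perm GolayPt) • c) with hc'
  have hc'm : c' ∈ code := symmDiff_mem_supports hc (smul_mem_code σ.2.1 hc)
  have hN : monoC 1 hc'm ∈ NC := by
    have := comm_mem_NC (monoC 1 hc) (permC σ)
    rw [show monoC 1 hc * permC σ * (monoC 1 hc)⁻¹ * (permC σ)⁻¹ =
      monoC 1 hc * (permC σ * monoC 1 hc * (permC σ)⁻¹)⁻¹ by group, permC_conj] at this
    rw [inv_eq_of_mul_eq_one_right (b := monoC 1 (smul_mem_code σ.2.1 hc)) (by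
      rw [flip_mul', monoC_congr _ empty_mem_code rfl (symmDiff_self _), monoC_one]), flip_mul'] at this
    exact this
  have htr : ∀ k, octO k ∈ c' ↔ (k = 0 ∨ k = 2) := fun k => by
    rw [hc', mem_symmDiff, hck, mem_smul_iff, show (σ : Equiv.Perm GolayPt).symm (octO k) = octO ((cyc 0).symm k) from
      (Equiv.symm_apply_eq _).mpr (by rw [hσ, Equiv.apply_symm_apply]), hck]
    revert k; decide +kernel
  obtain ⟨a, b, x, y, hab, hxy, h0, h2⟩ := pair_perms i j hij
  obtain ⟨τ, hτ⟩ := exists_lift_perm (p := Equiv.swap a b * Equiv.swap x y) (by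
    rw [map_mul, Equiv.Perm.sign_swap hab, Equiv.Perm.sign_swap hxy]; rfl)
  refine ⟨_, smul_mem_code τ.2.1 hc'm, fun k => ?_, ?_⟩
  · set p := Equiv.swap a b * Equiv.swap x y
    rw [mem_smul_iff, show (τ : Equiv.Perm GolayPt).symm (octO k) = octO (p.symm k) from
      (Equiv.symm_apply_eq _).mpr (by rw [hτ, Equiv.apply_symm_apply]), htr, Equiv.symm_apply_eq, Equiv.symm_apply_eq,
      h0, h2]
  · rw [← permC_conj]
    exact NC_normal.conj_mem _ hN _

theorem flip_mem : ∀ (n : ℕ) {c : Finset GolayPt} (hc : c ∈ code), (c ∩ oct).card = n → monoC 1 hc ∈ NC := by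
  intro n
  induction n using Nat.strong_induction_on with
  | _ n ih =>
    intro c hc hn
    rcases Nat.lt_or_ge n 2 with h2 | h2
    · obtain ⟨e, he⟩ := even_card_inter hc oct_code
      have h0 : c ∩ oct = ∅ := card_eq_zero.mp (by omega)
      refine ker_le_NC ((rho_monoC_eq_one _ _).mpr ⟨fun p _ => rfl, fun p hp q hq => ?_⟩)
      have : ∀ r ∈ oct, r ∉ c := fun r hr hrc => (eq_empty_iff_forall_notMem.mp h0 r) (mem_inter.mpr ⟨hrc, hr⟩)
      simp [this p hp, this q hq]
    · obtain ⟨p, hp, q, hq, hpq⟩ := one_lt_card.mp (show 1 < (c ∩ oct).card by omega)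
      obtain ⟨i, rfl⟩ := exists_octO (mem_inter.mp hp).2
      obtain ⟨j, rfl⟩ := exists_octO (mem_inter.mp hq).2
      obtain ⟨d, hd, htr, hdN⟩ := pair_flip i j fun e => hpq (e ▸ rfl)
      have hlt : (symmDiff c d ∩ oct).card < n := by
        rw [← hn]
        refine card_lt_card (Finset.ssubset_iff_subset_ne.mpr ⟨fun r hr => ?_, fun e => ?_⟩)
        · obtain ⟨h1, h2⟩ := mem_inter.mp hr
          obtain ⟨k, rfl⟩ := exists_octO h2
          refine mem_inter.mpr ⟨?_, h2⟩
          rcases mem_symmDiff.mp h1 with h | h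
          · exact h.1
          · rcases (htr k).mp h.1 with rfl | rfl
            · exact absurd (mem_inter.mp hp).1 h.2
            · exact absurd (mem_inter.mp hq).1 h.2
        · have := e ▸ hp
          exact (mem_symmDiff.mp (mem_inter.mp this).1).elim (fun h => h.2 ((htr i).mpr (Or.inl rfl)))
            (fun h => h.2 (mem_inter.mp hp).1)
      have := mul_mem (ih _ hlt (symmDiff_mem_supports hc hd) rfl) hdN
      rwa [flip_mul', monoC_congr _ hc rfl (symmDiff_symmDiff_cancel_right d c)] at this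

theorem monoC_mem (σ : setStab oct) {c : Finset GolayPt} (hc : c ∈ code) : monoC σ hc ∈ NC := by
  rw [monoC_split]
  exact mul_mem (flip_mem _ hc rfl) (permC_mem σ)

theorem lifts_flip : ∃ h ∈ NC, Lifts flipW h := by
  obtain ⟨c, hc, hck⟩ := exists_pair_word
  refine ⟨monoC 1 hc, monoC_mem 1 hc, fun x _ => funext fun k => ?_⟩
  rw [res_monoC]
  simp only [hck, flipW, OneMemClass.coe_one]
  rfl

theorem lifts_gen (i : ℕ) : ∃ h ∈ NC, Lifts (gen i) h := by
  have hm : ∀ j, ∃ h ∈ NC, Lifts (genMono j) h := fun j => by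
    unfold genMono
    split
    · rename_i hj
      obtain ⟨σ, hσ⟩ := exists_lift_perm (p := cyc ⟨j, hj⟩) (by
        rw [cyc, map_mul, Equiv.Perm.sign_swap (by simp [Fin.ext_iff]), Equiv.Perm.sign_swap (by simp [Fin.ext_iff])]
        rfl)
      exact ⟨_, permC_mem σ, lifts_perm hσ⟩
    · exact lifts_flip
  unfold gen
  split
  · exact hm i
  · obtain ⟨h, hh, hl⟩ := hm (i - 7)
    refine ⟨tetC * h * tetC⁻¹, NC_normal.conj_mem _ hh _, ?_⟩
    rw [tetC_inv, mul_assoc]
    exact lifts_tet.mul (hl.mul lifts_tet)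

theorem steps_sound : ∀ (l : List (ℕ × ℕ × ℕ)) (known : List ℕ), stepsOK known l = true →
    (∀ n ∈ known, ∃ h ∈ NC, act h v0 = ofCode n) →
    ∀ v : V, v ≠ 0 → qf v = 0 → ∃ h ∈ NC, act h v0 = v := by
  intro l
  induction l with
  | nil =>
    intro known hok hk v hv hq
    obtain ⟨n, rfl⟩ := ofCode_surjective v
    simp only [stepsOK, List.all_eq_true, List.mem_range, Bool.or_eq_true, beq_iff_eq, bne_iff_ne,
      List.contains_iff_mem] at hok
    rcases hok n n.2 with (h | h) | h
    · exact absurd (show ofCode n = 0 by rw [h]; funext s; simp [ofCode]) hv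
    · exact absurd hq h
    · exact hk _ h
  | cons s l ih =>
    intro known hok hk
    obtain ⟨p, i, c⟩ := s
    simp only [stepsOK, Bool.and_eq_true, List.contains_iff_mem, decide_eq_true_iff] at hok
    refine ih _ hok.2 fun n hn => ?_
    rcases List.mem_cons.mp hn with rfl | hn
    · obtain ⟨a, ha, hav⟩ := hk p hok.1.1.1
      obtain ⟨b, hb, hl⟩ := lifts_gen i
      refine ⟨b * a, mul_mem hb ha, ?_⟩
      rw [act_mul, hav, act, hl _ (secL_supp _), show res (secL (ofCode p) : GolayPt → ℤ) = _ from res_up _]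
      exact hok.1.2
    · exact hk n hn

theorem act_injective (h : Cg) : Function.Injective (act h) :=
  Function.LeftInverse.injective (g := act h⁻¹) fun v => by rw [← act_mul, inv_mul_cancel, act_one]

theorem orbit_v0 (v : V) : (∃ h : Cg, act h v0 = v) ↔ v ≠ 0 ∧ qf v = 0 := by
  constructor
  · rintro ⟨h, rfl⟩
    refine ⟨fun e => ?_, ?_⟩
    · have h0 : act h 0 = 0 := map_zero (lin h)
      exact absurd (act_injective h (e.trans h0.symm)) (by decide +kernel)
    · rw [qf_act]; decide +kernel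
  · rintro ⟨hv, hq⟩
    obtain ⟨h, -, e⟩ := steps_sound steps [1] steps_ok (fun n hn => ⟨1, one_mem _, by
      rw [List.mem_singleton.mp hn, act_one]; rfl⟩) v hv hq
    exact ⟨h, e⟩

theorem NC_eq_top : NC = ⊤ := by
  refine (Subgroup.eq_top_iff' _).mpr fun h => ?_
  obtain ⟨hv, hq⟩ := (orbit_v0 _).mp ⟨h, rfl⟩
  obtain ⟨a, ha, e⟩ := steps_sound steps [1] steps_ok (fun n hn => ⟨1, one_mem _, by
    rw [List.mem_singleton.mp hn, act_one]; rfl⟩) (act h v0) hv hq
  obtain ⟨σ, c, hc, hm⟩ := monomial_of_fix (a⁻¹ * h) (by rw [act_mul, ← e, ← act_mul, inv_mul_cancel, act_one])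
  have := mul_mem ha (hm ▸ monoC_mem σ hc : a⁻¹ * h ∈ NC)
  rwa [mul_inv_cancel_left] at this

theorem range_le_omega : rho.range ≤ Omega (ZMod 2) (quadFormPlus 4 (ZMod 2)) := by
  rw [MonoidHom.range_eq_map, ← NC_eq_top, NC, Subgroup.map_sup]
  refine sup_le ?_ ?_
  · rw [commutator_def, Subgroup.map_commutator]
    exact Subgroup.commutator_mono le_top le_top
  · rintro _ ⟨k, hk, rfl⟩
    rw [MonoidHom.mem_ker.mp hk]
    exact one_mem _

end Cfsg.Lib.Leech.Co1Inv
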